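import Cfsg.Agent.Lib.Lead.AutPM.MFac
import Cfsg.Agent.Lib.Helper5.AutDM.Weyl
import Cfsg.Agent.Lib.Helper5.AutDM.Perfect
import Cfsg.Agent.Lib.Helper5.AutDM.Center
import Cfsg.Agent.Lib.Helper8.AutDMm.HNF
import Mathlib

/-!
# Every automorphism of `PΩ⁻_{2m+2}(F)`, `m ≥ 3`, is induced by a semisimilarity (lead)

The final assembly: the model `C.G0` over the quadratic extension `K` of `F` (`exists_MC`), its
Weyl lifts, perfectness and centre (helper5), the normal form of the automorphisms of its central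
quotient (helper8, `mm_hNF`), and the descent `MC.facM`.
-/

set_option autoImplicit false

namespace Cfsg.Agent.AutPM

open Matrix Cfsg Cfsg.Agent.Lib.Helper5.GLBN Cfsg.Agent.Lib.Helper8.SpBN
open Cfsg.Agent.Lib.Helper8.Tw Cfsg.Agent.PSUT Cfsg.Agent.Lib.Helper5.AutSU
open Cfsg.Agent.Lib.Helper5.AutDO Cfsg.Agent.RootBN
open Cfsg.Agent.AutPSU (upT loT dgT moT ix)
open scoped MatrixGroups

universe u

/-- **Every automorphism of `PΩ⁻_{2m+2}(F)`, `m ≥ 3`, is induced by a semisimilarity.** -/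
theorem FacM_core {F : Type u} [Field F] [Fintype F] {m : ℕ} (hm : 3 ≤ m) (a b : F)
    (hab : ∀ z₁ z₂ : F, z₁ ^ 2 + a * z₁ * z₂ + b * z₂ ^ 2 = 0 → z₁ = 0 ∧ z₂ = 0)
    (β : MulAut (POmega F (quadFormMinus m F a b))) :
    ∃ (g : GL ((Fin m ⊕ Fin m) ⊕ Fin 2) F) (σ : F ≃+* F),
      IsSemisimilarityPair (quadFormMinus m F a b) g σ ∧
      IsInducedBySemilinearPOmega (quadFormMinus m F a b) g σ β := by
  classical
  obtain ⟨κ, rfl⟩ : ∃ κ, m = κ + 1 := ⟨m - 1, by omega⟩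
  obtain ⟨K, hK, hKf, C₀, ω, -, hω₀⟩ := exists_MC a b hab (N := 2 * κ + 4) κ rfl
  let C : MC (2 * κ + 4) F K :=
    ⟨κ, rfl, C₀.ι, C₀.cj, C₀.q, C₀.hpow, C₀.hcj, C₀.hι, C₀.hfix, C₀.hne⟩
  have hω : ω ^ 2 + C.ι a * ω + C.ι b = 0 := hω₀
  have hκ2 : 2 ≤ C.κ := by
    show 2 ≤ κ
    omega
  have hW := Cfsg.Agent.Lib.Helper5.AutDM.exists_mono_lift' C
  have hperf : commutator ↥C.G0 = ⊤ := Cfsg.Agent.Lib.Helper5.AutDM.perfectM C hκ2
  have hZ : ∀ g : ↥C.G0, g ∈ Subgroup.center ↥C.G0 → ∃ c : K,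
      ((gl g.1 : GL (Fin (2 * C.κ + 4)) K) : Matrix (Fin (2 * C.κ + 4)) (Fin (2 * C.κ + 4)) K)
        = Matrix.diagonal fun _ => c := by
    intro g hg
    exact Cfsg.Agent.Lib.Helper5.AutDM.center_scalarM C (by omega) hg
  obtain ⟨p, hp⟩ := CharP.exists K
  have := hp
  have : Fact p.Prime := ⟨CharP.char_is_prime K p⟩
  refine C.facM hab hω hW hperf hZ (by omega) ?_ β
  intro θ
  exact Cfsg.Agent.Lib.Helper8.AutDMm.mm_hNF C (by omega) p (C.ctx hab hω hW hperf hZ).f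
    (C.ctx hab hω hW hperf hZ).hf (le_of_eq (C.ctx hab hω hW hperf hZ).hker) θ

end Cfsg.Agent.AutPM
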