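import Cfsg.Agent.Lib.Lead.AutPM.Roots
import Cfsg.Agent.Lib.Lead.RootBN.OQSharp
import Mathlib

/-!
# `O⁻_{2κ+4}(F)` inside `O⁺_{2κ+4}(K)`: the sharp Bruhat decomposition descends (lead)

`ThG g = P cj(g) P⁻¹` on `GL_N(K)`; `GM = OQ ⊓ Fix ThG` is the full orthogonal group of minus type.
The three factors of the sharp form (in `GL_N(K)`) of an element of `GM` lie in `GM` (`GM_sharp`).
-/

set_option autoImplicit false

namespace Cfsg.Agent.AutPM

open Matrix Cfsg Cfsg.Agent.Lib.Helper5.GLBN Cfsg.Agent.Lib.Helper8.SpBN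
open Cfsg.Agent.Lib.Helper8.Tw Cfsg.Agent.PSUT Cfsg.Agent.Lib.Helper5.AutSU
open Cfsg.Agent.Lib.Helper5.AutDO Cfsg.Agent.RootBN
open scoped MatrixGroups

variable {N : ℕ} {F K : Type*} [Field F] [Field K]

namespace MC

variable (C : MC N F K)

/-- the twisting automorphism of `GL_N(K)` -/
noncomputable def ThG : GL (Fin N) K →* GL (Fin N) K :=
  (MulAut.conj (permGL C.D.tau : GL (Fin N) K)).toMonoidHom.comp
    (Matrix.GeneralLinearGroup.map (C.cj : K →+* K))

theorem ThG_apply (g : GL (Fin N) K) (a b : Fin N) :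
    ((C.ThG g : GL (Fin N) K) : Matrix (Fin N) (Fin N) K) a b
      = C.cj ((g : Matrix (Fin N) (Fin N) K) (C.D.tau a) (C.D.tau b)) := by
  show ((permGL C.D.tau * Matrix.GeneralLinearGroup.map (C.cj : K →+* K) g
    * (permGL C.D.tau)⁻¹ : GL (Fin N) K) : Matrix (Fin N) (Fin N) K) a b = _
  rw [← map_inv, C.D.tau_inv, Units.val_mul, Units.val_mul, permGL_coe, Matrix.mul_assoc,
    pm_mul_apply, mul_pm_apply, C.D.tau_inv]
  rfl

theorem ThG_ThG (g : GL (Fin N) K) : C.ThG (C.ThG g) = g := by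
  apply Units.ext
  ext a b
  rw [ThG_apply, ThG_apply, DC.tau_tau, DC.tau_tau, C.hcj]

theorem gl_Th (g : SUm N K (RingHom.id K)) : gl (C.Th g) = C.ThG (gl g) := by
  apply Units.ext
  ext a b
  rw [Th_apply, ThG_apply]

/-- the orthogonal group of minus type -/
noncomputable def GM : Subgroup (GL (Fin N) K) :=
  OQ N K C.even ⊓ C.ThG.eqLocus (MonoidHom.id _)

theorem mem_GM {g : GL (Fin N) K} : g ∈ C.GM ↔ g ∈ OQ N K C.even ∧ C.ThG g = g := Iff.rfl

/-- the field automorphisms preserve the orthogonal group -/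
theorem glMap_mem_OQ (hE : Even N) (ψ : K →+* K) {g : GL (Fin N) K} (hg : g ∈ OQ N K hE) :
    Matrix.GeneralLinearGroup.map ψ g ∈ OQ N K hE := by
  have h1 : Matrix.GeneralLinearGroup.map ψ g ∈ UH N K (RingHom.id K) :=
    Cfsg.Agent.AutPSU.glMap_mem_UH (φ := RingHom.id K) ψ (fun _ => rfl) (mem_OQ.1 hg).1
  refine mem_OQ.2 ⟨h1, fun k => ?_⟩
  have h : qc (g : Matrix (Fin N) (Fin N) K) k = 0 := (mem_OQ.1 hg).2 k
  have e : qc ((Matrix.GeneralLinearGroup.map ψ g : GL (Fin N) K) : Matrix (Fin N) (Fin N) K) k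
      = ψ (qc (g : Matrix (Fin N) (Fin N) K) k) := by
    rw [qc_apply, qc_apply, map_sum]
    apply Finset.sum_congr rfl
    intro i _
    rw [Cfsg.Agent.AutPSU.glMap_val, Cfsg.Agent.AutPSU.glMap_val]
    split_ifs
    · rw [map_mul]
    · rw [map_zero]
  rw [e, h, map_zero]

/-- the reflection swapping the two middle coordinates is orthogonal -/
theorem permGL_tau_mem_OQ : (permGL C.D.tau : GL (Fin N) K) ∈ OQ N K C.even :=
  mem_OQ.2 ⟨(Cfsg.Agent.AutPO.rflU (F := K) C.κ C.hN).2,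
    fun k => qc_mono C.even (isMono_permGL C.D.tau) k⟩

/-- the twisting automorphism preserves the orthogonal group -/
theorem ThG_mem_OQ {g : GL (Fin N) K} (hg : g ∈ OQ N K C.even) : C.ThG g ∈ OQ N K C.even := by
  show permGL C.D.tau * Matrix.GeneralLinearGroup.map (C.cj : K →+* K) g * (permGL C.D.tau)⁻¹ ∈ _
  exact mul_mem (mul_mem C.permGL_tau_mem_OQ (glMap_mem_OQ C.even _ hg))
    (inv_mem C.permGL_tau_mem_OQ)

/-- a column of the second half all of whose mirror pairs (except its own) have a vanishing member -/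
theorem qc_eq_mid {M : Matrix (Fin N) (Fin N) K} (h1 : ∀ i, M i i = 1) {k : Fin N}
    (hk : k.rev < k) (H : ∀ i, i ≠ k → i ≠ k.rev → M i k = 0 ∨ M i.rev k = 0) :
    qc M k = M k.rev k := by
  rw [qc_apply, Finset.sum_eq_single k.rev]
  · rw [if_pos (by rw [Fin.rev_rev]; exact hk), Fin.rev_rev, h1, mul_one]
  · intro i _ hi
    split_ifs with h
    · have hik : i ≠ k := by
        rintro rfl
        exact lt_asymm h hk
      rcases H i hik hi with e | e
      · rw [e, zero_mul]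
      · rw [e, mul_zero]
    · rfl
  · intro h
    exact absurd (Finset.mem_univ _) h

theorem p1_lt : C.D.p1 < C.D.p1.rev := by
  rw [Fin.lt_def, C.D.p1_val, C.D.p1_rev_val]
  omega

/-- an upper unitriangular orthogonal matrix vanishes at the middle position -/
theorem uni_mid {u : GL (Fin N) K} (hu : u ∈ OQ N K C.even)
    (hU : IsUni (u : Matrix (Fin N) (Fin N) K)) :
    (u : Matrix (Fin N) (Fin N) K) C.D.p1 C.D.p1.rev = 0 := by
  have h := (mem_OQ.1 hu).2 C.D.p1.rev
  have hU' := isUni_iff.1 hU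
  rw [qc_eq_mid hU'.1 (k := C.D.p1.rev) (by rw [Fin.rev_rev]; exact C.p1_lt), Fin.rev_rev] at h
  · exact h
  · intro i h1 h2
    rw [Fin.rev_rev] at h2
    have hκ : C.D.κ = C.κ := rfl
    have e1 := C.D.p1_val
    have e2 := C.D.p1_rev_val
    rw [hκ] at e1 e2
    have e3 := Fin.val_rev i
    have hN := C.hN
    have hi := i.2
    have h1' : (i : ℕ) ≠ C.κ + 2 := fun e => h1 (Fin.ext (by rw [e, e2]))
    have h2' : (i : ℕ) ≠ C.κ + 1 := fun e => h2 (Fin.ext (by rw [e, e1]))
    by_cases h3 : (i : ℕ) < C.κ + 1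
    · right
      apply hU'.2
      rw [Fin.lt_def]
      omega
    · left
      apply hU'.2
      rw [Fin.lt_def]
      omega

theorem tau_lt_or {a b : Fin N} (h : b < a) :
    C.D.tau b < C.D.tau a ∨ (C.D.tau a = C.D.p1 ∧ C.D.tau b = C.D.p1.rev) := by
  have hκ : C.D.κ = C.κ := rfl
  have e1 := C.D.p1_val
  have e2 := C.D.p1_rev_val
  have ta := C.D.tau_val a
  have tb := C.D.tau_val b
  rw [hκ] at e1 e2 ta tb
  rw [Fin.lt_def] at h
  by_cases h1 : (a : ℕ) = C.κ + 2 ∧ (b : ℕ) = C.κ + 1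
  · right
    constructor
    · apply Fin.ext
      rw [ta, e1]
      split_ifs <;> omega
    · apply Fin.ext
      rw [tb, e2]
      split_ifs <;> omega
  · left
    rw [Fin.lt_def, ta, tb]
    split_ifs <;> omega

/-- the twist of an upper unitriangular orthogonal matrix is upper unitriangular -/
theorem ThG_isUni {u : GL (Fin N) K} (hu : u ∈ OQ N K C.even)
    (hU : IsUni (u : Matrix (Fin N) (Fin N) K)) :
    IsUni ((C.ThG u : GL (Fin N) K) : Matrix (Fin N) (Fin N) K) := by
  have hU' := isUni_iff.1 hU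
  refine isUni_iff.2 ⟨fun a => ?_, fun a b hab => ?_⟩
  · rw [ThG_apply, hU'.1, map_one]
  · rw [ThG_apply]
    rcases C.tau_lt_or hab with h | ⟨h1, h2⟩
    · rw [hU'.2 _ _ h, map_zero]
    · rw [h1, h2, C.uni_mid hu hU, map_zero]

/-- the twist of a monomial matrix -/
theorem ThG_isMono {ν : GL (Fin N) K} {π : Equiv.Perm (Fin N)}
    (hν : IsMono (ν : Matrix (Fin N) (Fin N) K) π) :
    IsMono ((C.ThG ν : GL (Fin N) K) : Matrix (Fin N) (Fin N) K) (C.D.tau * π * C.D.tau) := by
  intro i j hij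
  rw [ThG_apply, hν, map_zero]
  intro e
  apply hij
  rw [Equiv.Perm.mul_apply, Equiv.Perm.mul_apply, ← e, C.D.tau_tau]

/-- the exceptional entry of the sharp factor vanishes -/
theorem pat_mid {w : Matrix (Fin N) (Fin N) K} {π : Equiv.Perm (Fin N)}
    (hπ : revC π = π) (hw : IsPat (rM π) w) {k : Fin N} (hq : qc w k = 0) (hk : k.rev < k)
    (hπk : π k = C.D.p1) : w k.rev k = 0 := by
  have hrev := (revC_eq_self_iff π).1 hπ
  rw [qc_eq_mid hw.1 hk] at hq
  · exact hq
  · intro i h1 h2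
    by_contra hc
    rw [not_or] at hc
    obtain ⟨ha, hb⟩ := hc
    have h2' : i.rev ≠ k := fun e => h2 (by rw [← e, Fin.rev_rev])
    have hi : i < k := by
      rcases lt_trichotomy i k with h4 | h4 | h4
      · exact h4
      · exact absurd h4 h1
      · exact absurd (hw.2.1 i k h4) ha
    have hi' : i.rev < k := by
      rcases lt_trichotomy i.rev k with h4 | h4 | h4
      · exact h4
      · exact absurd h4 h2'
      · exact absurd (hw.2.1 i.rev k h4) hb
    have r1 : π k < π i := by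
      by_contra hc
      exact ha (hw.2.2 i k hi hc)
    have r2 : π k < (π i).rev := by
      rw [← hrev]
      by_contra hc
      exact hb (hw.2.2 i.rev k hi' hc)
    rw [hπk, Fin.lt_def] at r1 r2
    have hκ : C.D.κ = C.κ := rfl
    have e1 := C.D.p1_val
    rw [hκ] at e1
    have e3 := Fin.val_rev (π i)
    have hN := C.hN
    have := (π i).2
    omega

/-- the twist of the sharp factor of an orthogonal matrix -/
theorem ThG_isPat {w : GL (Fin N) K} {π : Equiv.Perm (Fin N)} (hw0 : w ∈ OQ N K C.even)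
    (hπ : revC π = π) (hw : IsPat (rM π) (w : Matrix (Fin N) (Fin N) K)) :
    IsPat (rM (C.D.tau * π * C.D.tau))
      ((C.ThG w : GL (Fin N) K) : Matrix (Fin N) (Fin N) K) := by
  have hrev := (revC_eq_self_iff π).1 hπ
  have hU := (C.ThG_isUni hw0 hw.isUni)
  refine ⟨hU.1, hU.2.1, fun i j hij hr => ?_⟩
  rw [ThG_apply]
  rcases C.tau_lt_or hij with h | ⟨h1, h2⟩
  · by_cases h3 : π (C.D.tau j) < π (C.D.tau i)
    · rcases C.tau_lt_or h3 with h4 | ⟨h4, h5⟩
      · exfalso
        apply hr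
        unfold rM
        rw [Equiv.Perm.mul_apply, Equiv.Perm.mul_apply, Equiv.Perm.mul_apply, Equiv.Perm.mul_apply]
        exact h4
      · -- `π (tau i) = p1.rev`, `π (tau j) = p1`
        have e5 : π (C.D.tau j) = C.D.p1 := by
          have := congrArg C.D.tau h5
          rw [C.D.tau_tau] at this
          rw [this]
          unfold DC.tau
          rw [Equiv.swap_apply_right]
        have e4 : π (C.D.tau i) = C.D.p1.rev := by
          have := congrArg C.D.tau h4
          rw [C.D.tau_tau] at this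
          rw [this]
          unfold DC.tau
          rw [Equiv.swap_apply_left]
        have e6 : C.D.tau i = (C.D.tau j).rev := by
          apply π.injective
          rw [hrev, e5, e4]
        rw [e6, C.pat_mid hπ hw ((mem_OQ.1 hw0).2 _) (by rw [← e6]; exact h) e5, map_zero]
    · rw [hw.2.2 _ _ h h3, map_zero]
  · rw [h1, h2, hw.2.1 _ _ C.p1_lt, map_zero]

/-- **The sharp Bruhat decomposition descends to the orthogonal group of minus type.** -/
theorem GM_sharp [Finite K] {g : GL (Fin N) K} (hg : g ∈ C.GM) :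
    ∃ (u ν w : GL (Fin N) K) (π : Equiv.Perm (Fin N)),
      IsUni (u : Matrix (Fin N) (Fin N) K) ∧ IsMono (ν : Matrix (Fin N) (Fin N) K) π ∧
      IsPat (rM π) (w : Matrix (Fin N) (Fin N) K) ∧ g = u * ν * w ∧
      u ∈ C.GM ∧ ν ∈ C.GM ∧ w ∈ C.GM := by
  obtain ⟨hg1, hg2⟩ := C.mem_GM.1 hg
  obtain ⟨u, ν, w, π, hu, hν, hw, e, e1, e2, e3⟩ := OQ.sharp C.even hg1
  have hπ : revC π = π := revC_of_mem_UH (mem_OQ.1 e2).1 hν
  have hσ : C.ThG u * C.ThG ν * C.ThG w = u * ν * w := by
    rw [← map_mul, ← map_mul, ← e]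
    exact hg2
  have hu' := C.ThG_isUni e1 hu
  have hν' := C.ThG_isMono hν
  have hw' := C.ThG_isPat e3 hπ hw
  have hππ : C.D.tau * π * C.D.tau = π :=
    perm_eq_of_bruhat hu'.upper (hw'.isUni).upper hu.upper (hw.isUni).upper hν' hν hσ
  rw [hππ] at hν' hw'
  obtain ⟨f1, f2, f3⟩ := sharp_unique hu' hu hν' hν hw' hw hσ
  exact ⟨u, ν, w, π, hu, hν, hw, e, C.mem_GM.2 ⟨e1, f1⟩, C.mem_GM.2 ⟨e2, f2⟩,
    C.mem_GM.2 ⟨e3, f3⟩⟩

end MC

end Cfsg.Agent.AutPM
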