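import Cfsg.Agent.Lib.Lead.AutPM.Theta
import Mathlib

/-!
# The quadratic extension for the orthogonal groups of minus type (lead)

For an anisotropic binary form `z₁² + a z₁ z₂ + b z₂²` over a finite field `F`: the field
`K = F[X]/(X² + a X + b)` with its Frobenius conjugation gives the data `MC N F K` of the twisted model,
together with a root `ω` of `X² + a X + b` (`exists_MC`).
-/

set_option autoImplicit false

namespace Cfsg.Agent.AutPM

open Polynomial

universe u

variable {F : Type u} [Field F] [Fintype F] (a b : F)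

/-- the polynomial `X² + a X + b` -/
noncomputable def fP : F[X] := X ^ 2 + C a * X + C b

omit [Fintype F] in
theorem fP_natDegree : (fP a b).natDegree = 2 := by
  unfold fP
  compute_degree!

omit [Fintype F] in
theorem fP_monic : (fP a b).Monic := by
  unfold fP
  monicity!

omit [Fintype F] in
theorem fP_irreducible
    (hab : ∀ z₁ z₂ : F, z₁ ^ 2 + a * z₁ * z₂ + b * z₂ ^ 2 = 0 → z₁ = 0 ∧ z₂ = 0) :
    Irreducible (fP a b) := by
  rw [(fP_monic a b).irreducible_iff_roots_eq_zero_of_degree_le_three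
    (by rw [fP_natDegree]) (by rw [fP_natDegree]; norm_num)]
  rw [Multiset.eq_zero_iff_forall_notMem]
  intro r hr
  rw [mem_roots (fP_monic a b).ne_zero, IsRoot.def] at hr
  unfold fP at hr
  simp only [eval_add, eval_pow, eval_X, eval_mul, eval_C] at hr
  have := (hab r 1 (by rw [← hr]; ring)).2
  exact one_ne_zero this

/-- the fixed points of the `q`-power map in a finite extension of a field with `q` elements -/
theorem pow_card_fix {K : Type*} [Field K] [Fintype K] (ι : F →+* K) (x : K)
    (hx : x ^ Fintype.card F = x) : ∃ a, ι a = x := by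
  classical
  have hq : 1 < Fintype.card F := Fintype.one_lt_card
  set q := Fintype.card F with hqdef
  let P : K[X] := X ^ q - X
  have hP : P ≠ 0 := FiniteField.X_pow_card_sub_X_ne_zero K hq
  have hdeg : P.natDegree = q := FiniteField.X_pow_card_sub_X_natDegree_eq K hq
  let S : Finset K := Finset.univ.image ι
  have hS : S.card = q := by
    rw [Finset.card_image_of_injective _ ι.injective, Finset.card_univ]
  have hsub : S ⊆ P.roots.toFinset := by
    intro y hy
    obtain ⟨c, -, rfl⟩ := Finset.mem_image.1 hy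
    rw [Multiset.mem_toFinset, mem_roots hP, IsRoot.def]
    simp only [P, eval_sub, eval_pow, eval_X]
    rw [← map_pow, FiniteField.pow_card, sub_self]
  have hle : P.roots.toFinset.card ≤ S.card := by
    rw [hS]
    calc P.roots.toFinset.card ≤ Multiset.card P.roots := Multiset.toFinset_card_le _
      _ ≤ P.natDegree := card_roots' P
      _ = q := hdeg
  have heq := Finset.eq_of_subset_of_card_le hsub hle
  have hxm : x ∈ P.roots.toFinset := by
    rw [Multiset.mem_toFinset, mem_roots hP, IsRoot.def]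
    simp only [P, eval_sub, eval_pow, eval_X]
    rw [hx, sub_self]
  rw [← heq] at hxm
  obtain ⟨c, -, hc⟩ := Finset.mem_image.1 hxm
  exact ⟨c, hc⟩

theorem exists_MC
    (hab : ∀ z₁ z₂ : F, z₁ ^ 2 + a * z₁ * z₂ + b * z₂ ^ 2 = 0 → z₁ = 0 ∧ z₂ = 0)
    {N : ℕ} (κ : ℕ) (hN : N = 2 * κ + 4) :
    ∃ (K : Type u) (_ : Field K) (_ : Fintype K) (C : MC N F K) (ω : K),
      C.κ = κ ∧ ω ^ 2 + C.ι a * ω + C.ι b = 0 := by
  classical
  have : Fact (Irreducible (fP a b)) := ⟨fP_irreducible a b hab⟩
  let K := AdjoinRoot (fP a b)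
  let _ : Field K := AdjoinRoot.instField
  have : Module.Finite F K := (AdjoinRoot.powerBasis (fP_monic a b).ne_zero).finite
  have : Finite K := Module.finite_of_finite F
  let _ : Fintype K := Fintype.ofFinite K
  have hcard : Fintype.card K = (Fintype.card F) ^ 2 := by
    rw [Module.card_eq_pow_finrank (K := F) (V := K),
      PowerBasis.finrank (AdjoinRoot.powerBasis (fP_monic a b).ne_zero),
      AdjoinRoot.powerBasis_dim, fP_natDegree]
  let cj : K ≃+* K := (FiniteField.frobeniusAlgEquivOfAlgebraic F K).toRingEquiv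
  have hpow : ∀ x, cj x = x ^ Fintype.card F := fun x => rfl
  have hq : 1 < Fintype.card F := Fintype.one_lt_card
  have hι : ∀ c : F, cj (AdjoinRoot.of (fP a b) c) = AdjoinRoot.of (fP a b) c := by
    intro c
    rw [hpow, ← map_pow, FiniteField.pow_card]
  refine ⟨K, inferInstance, inferInstance,
    ⟨κ, hN, AdjoinRoot.of (fP a b), cj, Fintype.card F, hpow, ?_, hι, ?_, ?_⟩,
    AdjoinRoot.root (fP a b), rfl, ?_⟩
  · intro x
    rw [hpow, hpow, ← pow_mul, ← pow_two, ← hcard, FiniteField.pow_card]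
  · intro x hx
    exact pow_card_fix (AdjoinRoot.of (fP a b)) x hx
  · by_contra hall
    have hall' : ∀ x : K, cj x = x := by
      intro x
      by_contra h
      exact hall ⟨x, h⟩
    have hsurj : Function.Surjective (AdjoinRoot.of (fP a b)) := by
      intro x
      exact pow_card_fix (AdjoinRoot.of (fP a b)) x (hall' x)
    have := Fintype.card_le_of_surjective _ hsurj
    rw [hcard] at this
    nlinarith
  · have h := AdjoinRoot.eval₂_root (fP a b)
    unfold fP at h
    simp only [eval₂_add, eval₂_pow, eval₂_X, eval₂_mul, eval₂_C] at h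
    exact h

section root

variable {N : ℕ} {F' K : Type*} [Field F'] [Field K] (C : MC N F' K) {a' b' : F'} {ω : K}

/-- the root of an anisotropic form is not fixed by the conjugation -/
theorem MC.cj_root_ne
    (hab : ∀ z₁ z₂ : F', z₁ ^ 2 + a' * z₁ * z₂ + b' * z₂ ^ 2 = 0 → z₁ = 0 ∧ z₂ = 0)
    (hω : ω ^ 2 + C.ι a' * ω + C.ι b' = 0) : C.cj ω ≠ ω := by
  intro h
  obtain ⟨r, hr⟩ := C.hfix ω h
  rw [← hr, ← map_pow, ← map_mul, ← map_add, ← map_add] at hω
  have h0 : r ^ 2 + a' * r + b' = 0 := C.ι.injective (by rw [hω, map_zero])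
  have := (hab r 1 (by rw [← h0]; ring)).2
  exact one_ne_zero this

/-- the sum of the two roots -/
theorem MC.cj_root_add
    (hab : ∀ z₁ z₂ : F', z₁ ^ 2 + a' * z₁ * z₂ + b' * z₂ ^ 2 = 0 → z₁ = 0 ∧ z₂ = 0)
    (hω : ω ^ 2 + C.ι a' * ω + C.ι b' = 0) : C.cj ω + ω = - C.ι a' := by
  have h1 : C.cj ω ^ 2 + C.ι a' * C.cj ω + C.ι b' = 0 := by
    have := congrArg C.cj hω
    rw [map_add, map_add, map_mul, map_pow, C.hι, C.hι, map_zero] at this
    exact this
  have h2 : (C.cj ω - ω) * (C.cj ω + ω + C.ι a') = 0 := by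
    have : (C.cj ω - ω) * (C.cj ω + ω + C.ι a')
        = (C.cj ω ^ 2 + C.ι a' * C.cj ω + C.ι b') - (ω ^ 2 + C.ι a' * ω + C.ι b') := by ring
    rw [this, h1, hω, sub_zero]
  have h3 := (mul_eq_zero.1 h2).resolve_left (sub_ne_zero.2 (C.cj_root_ne hab hω))
  exact eq_neg_of_add_eq_zero_left h3

/-- the product of the two roots -/
theorem MC.cj_root_mul
    (hab : ∀ z₁ z₂ : F', z₁ ^ 2 + a' * z₁ * z₂ + b' * z₂ ^ 2 = 0 → z₁ = 0 ∧ z₂ = 0)
    (hω : ω ^ 2 + C.ι a' * ω + C.ι b' = 0) : ω * C.cj ω = C.ι b' := by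
  have h := C.cj_root_add hab hω
  have e : C.cj ω = - C.ι a' - ω := by rw [← h]; ring
  rw [e]
  have : ω * (-C.ι a' - ω) = C.ι b' - (ω ^ 2 + C.ι a' * ω + C.ι b') := by ring
  rw [this, hω, sub_zero]

end root

end Cfsg.Agent.AutPM
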