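import Cfsg.Agent.Lib.Lead.AutPM.QMat
import Cfsg.Agent.Lib.Lead.AutPM.Descent
import Cfsg.Agent.Lib.Lead.AutPM.Field
import Cfsg.Agent.Lib.Lead.RootBN.PFac
import Cfsg.Prelude.Def_LieTypeDatum
import Mathlib

/-!
# The form of minus type in the hyperbolic coordinates over the quadratic extension (lead)

`AMinus` : the matrix of `quadFormMinus`; `mIdx`, `mEquiv` : the index equivalence
`(Fin (κ+1) ⊕ Fin (κ+1)) ⊕ Fin 2 ≃ Fin N`; `qv_eq_sum`; `qM` : the reindexed form; `mvF`, `MM` : the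
change of coordinates `z₁ - ω z₂`, `z₁ - ω̄ z₂` at the two middle coordinates; `MC.qv_MMg`, `MC.cj_MMg`.
-/

set_option autoImplicit false

namespace Cfsg.Agent.AutPM

open Matrix Cfsg Cfsg.Agent.RootBN Cfsg.Agent.Lib.Helper5.GLBN Cfsg.Agent.Lib.Helper8.SpBN
open Cfsg.Agent.Lib.Helper8.Tw Cfsg.Agent.PSUT Cfsg.Agent.Lib.Helper5.AutSU
open Cfsg.Agent.Lib.Helper5.AutDO
open scoped MatrixGroups

variable {N m : ℕ} {F K : Type*} [Field F] [Field K]


/-- the matrix of the quadratic form of minus type -/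
def AMinus (m : ℕ) (a b : F) : Matrix ((Fin m ⊕ Fin m) ⊕ Fin 2) ((Fin m ⊕ Fin m) ⊕ Fin 2) F :=
  Matrix.fromBlocks (Matrix.fromBlocks 0 1 0 0) 0 0 !![1, a; 0, b]

theorem quadFormMinus_eq_qA (a b : F) (v : (Fin m ⊕ Fin m) ⊕ Fin 2 → F) :
    quadFormMinus m F a b v = qA (AMinus m a b) v := by
  unfold quadFormMinus qA AMinus
  simp only [Fintype.sum_sum_type, Matrix.fromBlocks_apply₁₁, Matrix.fromBlocks_apply₁₂,
    Matrix.fromBlocks_apply₂₁, Matrix.fromBlocks_apply₂₂, Matrix.zero_apply, Matrix.one_apply,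
    Fin.sum_univ_two, zero_mul, Finset.sum_const_zero, add_zero, zero_add]
  simp only [ite_mul, one_mul, zero_mul, Finset.sum_ite_eq, Finset.mem_univ, if_true]
  simp
  ring

theorem AMinus_map (ι : F →+* K) (a b : F) : (AMinus m a b).map ι = AMinus m (ι a) (ι b) := by
  ext x y
  unfold AMinus
  rcases x with (x | x) | x <;> rcases y with (y | y) | y <;>
    simp [Matrix.one_apply, apply_ite]
  all_goals fin_cases x <;> fin_cases y <;> simp



/-- the index map of the form of minus type -/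
def mIdx (κ : ℕ) (hN : N = 2 * κ + 4) : (Fin (κ + 1) ⊕ Fin (κ + 1)) ⊕ Fin 2 → Fin N
  | .inl (.inl i) => ⟨i, by omega⟩
  | .inl (.inr i) => ⟨N - 1 - i, by omega⟩
  | .inr j => ⟨κ + 1 + j, by omega⟩

theorem mIdx_bijective (κ : ℕ) (hN : N = 2 * κ + 4) : Function.Bijective (mIdx κ hN) := by
  rw [Fintype.bijective_iff_injective_and_card]
  constructor
  · rintro ((i | i) | i) ((j | j) | j) h <;> simp only [mIdx, Fin.mk.injEq] at h
    · rw [Fin.ext h]
    · have := i.2; have := j.2; omega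
    · have := i.2; have := j.2; omega
    · have := i.2; have := j.2; omega
    · have := i.2
      have := j.2
      have : (i : ℕ) = j := by omega
      rw [Fin.ext this]
    · have := i.2; have := j.2; omega
    · have := i.2; have := j.2; omega
    · have := i.2; have := j.2; omega
    · have : (i : ℕ) = j := by omega
      rw [Fin.ext this]
  · simp only [Fintype.card_sum, Fintype.card_fin]
    omega

/-- the index equivalence -/
noncomputable def mEquiv (κ : ℕ) (hN : N = 2 * κ + 4) :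
    (Fin (κ + 1) ⊕ Fin (κ + 1)) ⊕ Fin 2 ≃ Fin N :=
  Equiv.ofBijective _ (mIdx_bijective κ hN)

theorem mEquiv_apply (κ : ℕ) (hN : N = 2 * κ + 4) (x : (Fin (κ + 1) ⊕ Fin (κ + 1)) ⊕ Fin 2) :
    mEquiv κ hN x = mIdx κ hN x := rfl

variable (κ : ℕ) (hN : N = 2 * κ + 4)

theorem mIdx_rev_inl (i : Fin (κ + 1)) :
    (mIdx κ hN (.inl (.inl i))).rev = mIdx κ hN (.inl (.inr i)) := by
  apply Fin.ext
  rw [Fin.val_rev]
  simp only [mIdx]
  have := i.2
  omega

theorem mIdx_rev_inr (i : Fin (κ + 1)) :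
    (mIdx κ hN (.inl (.inr i))).rev = mIdx κ hN (.inl (.inl i)) := by
  rw [← mIdx_rev_inl, Fin.rev_rev]

theorem mIdx_rev_mid0 : (mIdx κ hN (.inr 0)).rev = mIdx κ hN (.inr 1) := by
  apply Fin.ext
  rw [Fin.val_rev]
  simp only [mIdx]
  simp
  omega

theorem mIdx_rev_mid1 : (mIdx κ hN (.inr 1)).rev = mIdx κ hN (.inr 0) := by
  rw [← mIdx_rev_mid0, Fin.rev_rev]

/-- the hyperbolic quadratic form in the coordinates of the statements -/
theorem qv_eq_sum (y : Fin N → F) :
    qv y = (∑ i : Fin (κ + 1), y (mIdx κ hN (.inl (.inl i))) * y (mIdx κ hN (.inl (.inr i))))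
      + y (mIdx κ hN (.inr 0)) * y (mIdx κ hN (.inr 1)) := by
  unfold qv
  rw [← Equiv.sum_comp (mEquiv κ hN) (fun a => if a < a.rev then y a * y a.rev else 0)]
  rw [Fintype.sum_sum_type, Fintype.sum_sum_type, Fin.sum_univ_two]
  simp only [mEquiv_apply]
  have h1 : ∀ i : Fin (κ + 1), mIdx κ hN (.inl (.inl i)) < (mIdx κ hN (.inl (.inl i))).rev := by
    intro i
    rw [mIdx_rev_inl, Fin.lt_def]
    simp only [mIdx]
    have := i.2
    omega
  have h2 : ∀ i : Fin (κ + 1),
      ¬ mIdx κ hN (.inl (.inr i)) < (mIdx κ hN (.inl (.inr i))).rev := by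
    intro i
    rw [mIdx_rev_inr, Fin.lt_def, not_lt]
    simp only [mIdx]
    have := i.2
    omega
  have h3 : mIdx κ hN (.inr 0) < (mIdx κ hN (.inr 0)).rev := by
    rw [mIdx_rev_mid0, Fin.lt_def]
    simp [mIdx]
  have h4 : ¬ mIdx κ hN (.inr 1) < (mIdx κ hN (.inr 1)).rev := by
    rw [mIdx_rev_mid1, Fin.lt_def]
    simp [mIdx]
  have h1' := h1
  have h3' := h3
  simp only [mIdx_rev_inl] at h1'
  rw [mIdx_rev_mid0] at h3'
  simp only [h1', h2, h3', h4, if_true, if_false, Finset.sum_const_zero, add_zero, mIdx_rev_inl,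
    mIdx_rev_mid0]

/-- the form of minus type, reindexed -/
noncomputable def qM (a b : F) (y : Fin N → F) : F :=
  quadFormMinus (κ + 1) F a b (fun x => y (mEquiv κ hN x))

theorem qM_eq (a b : F) (y : Fin N → F) :
    qM κ hN a b y
      = (∑ i : Fin (κ + 1), y (mIdx κ hN (.inl (.inl i))) * y (mIdx κ hN (.inl (.inr i))))
        + (y (mIdx κ hN (.inr 0)) ^ 2 + a * y (mIdx κ hN (.inr 0)) * y (mIdx κ hN (.inr 1))
          + b * y (mIdx κ hN (.inr 1)) ^ 2) := rfl



/-- the change of coordinates diagonalising the anisotropic part -/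
def mvF (p : Fin N) (ω ω' : K) (y : Fin N → K) : Fin N → K :=
  fun i => if i = p then y p - ω * y p.rev else if i = p.rev then y p - ω' * y p.rev else y i

/-- the inverse change of coordinates -/
noncomputable def mvI (p : Fin N) (ω ω' : K) (y : Fin N → K) : Fin N → K :=
  fun i => if i = p then (ω' * y p - ω * y p.rev) / (ω' - ω)
    else if i = p.rev then (y p - y p.rev) / (ω' - ω) else y i

theorem mvF_mvI (p : Fin N) (hp : p ≠ p.rev) (ω ω' : K) (hω : ω' ≠ ω) (y : Fin N → K) :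
    mvF p ω ω' (mvI p ω ω' y) = y := by
  have hδ : ω' - ω ≠ 0 := sub_ne_zero.2 hω
  funext i
  unfold mvF mvI
  simp only [if_true, if_neg hp.symm]
  by_cases h1 : i = p
  · rw [if_pos h1, h1]
    field_simp
    ring
  · rw [if_neg h1]
    by_cases h2 : i = p.rev
    · rw [if_pos h2, h2]
      field_simp
      ring
    · rw [if_neg h2, if_neg h1, if_neg h2]

theorem mvI_mvF (p : Fin N) (hp : p ≠ p.rev) (ω ω' : K) (hω : ω' ≠ ω) (y : Fin N → K) :
    mvI p ω ω' (mvF p ω ω' y) = y := by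
  have hδ : ω' - ω ≠ 0 := sub_ne_zero.2 hω
  funext i
  unfold mvF mvI
  simp only [if_true, if_neg hp.symm]
  by_cases h1 : i = p
  · rw [if_pos h1, h1]
    field_simp
    ring
  · rw [if_neg h1]
    by_cases h2 : i = p.rev
    · rw [if_pos h2, h2]
      field_simp
      ring
    · rw [if_neg h2, if_neg h1, if_neg h2]

/-- the change of coordinates, as a linear map -/
def mvL (p : Fin N) (ω ω' : K) : (Fin N → K) →ₗ[K] (Fin N → K) where
  toFun := mvF p ω ω'
  map_add' x y := by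
    funext i
    unfold mvF
    simp only [Pi.add_apply]
    split_ifs <;> ring
  map_smul' c x := by
    funext i
    unfold mvF
    simp only [Pi.smul_apply, smul_eq_mul, RingHom.id_apply]
    split_ifs <;> ring

/-- the inverse change of coordinates, as a linear map -/
noncomputable def mvIL (p : Fin N) (ω ω' : K) : (Fin N → K) →ₗ[K] (Fin N → K) where
  toFun := mvI p ω ω'
  map_add' x y := by
    funext i
    unfold mvI
    simp only [Pi.add_apply]
    split_ifs <;> ring
  map_smul' c x := by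
    funext i
    unfold mvI
    simp only [Pi.smul_apply, smul_eq_mul, RingHom.id_apply]
    split_ifs <;> ring

/-- the change of coordinates, as an invertible matrix -/
noncomputable def MM (p : Fin N) (hp : p ≠ p.rev) (ω ω' : K) (hω : ω' ≠ ω) : GL (Fin N) K where
  val := LinearMap.toMatrix' (mvL p ω ω')
  inv := LinearMap.toMatrix' (mvIL p ω ω')
  val_inv := by
    rw [← LinearMap.toMatrix'_comp, ← LinearMap.toMatrix'_id]
    congr 1
    apply LinearMap.ext
    intro y
    exact mvF_mvI p hp ω ω' hω y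
  inv_val := by
    rw [← LinearMap.toMatrix'_comp, ← LinearMap.toMatrix'_id]
    congr 1
    apply LinearMap.ext
    intro y
    exact mvI_mvF p hp ω ω' hω y

variable (p : Fin N) (hp : p ≠ p.rev) (ω ω' : K) (hω : ω' ≠ ω)

theorem MM_mulVec (y : Fin N → K) :
    ((MM p hp ω ω' hω : GL (Fin N) K) : Matrix (Fin N) (Fin N) K) *ᵥ y = mvF p ω ω' y :=
  LinearMap.toMatrix'_mulVec _ _

theorem MM_inv_mulVec (y : Fin N → K) :
    (((MM p hp ω ω' hω)⁻¹ : GL (Fin N) K) : Matrix (Fin N) (Fin N) K) *ᵥ y = mvI p ω ω' y :=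
  LinearMap.toMatrix'_mulVec _ _

theorem MM_apply (i j : Fin N) :
    ((MM p hp ω ω' hω : GL (Fin N) K) : Matrix (Fin N) (Fin N) K) i j
      = mvF p ω ω' (Pi.single j 1) i :=
  LinearMap.toMatrix'_apply _ _ _



namespace MC

variable (C : MC N F K) {a b : F} {ω : K}
  (hab : ∀ z₁ z₂ : F, z₁ ^ 2 + a * z₁ * z₂ + b * z₂ ^ 2 = 0 → z₁ = 0 ∧ z₂ = 0)
  (hω : ω ^ 2 + C.ι a * ω + C.ι b = 0)

theorem mIdx_mid0 : mIdx C.κ C.hN (.inr 0) = C.D.p1 := by
  apply Fin.ext
  rw [C.D.p1_val]
  simp [mIdx]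
  rfl

theorem mIdx_mid1 : mIdx C.κ C.hN (.inr 1) = C.D.p1.rev := by
  rw [← mIdx_rev_mid0, mIdx_mid0]

theorem mIdx_inl_ne (i : Fin (C.κ + 1)) :
    mIdx C.κ C.hN (.inl (.inl i)) ≠ C.D.p1 ∧ mIdx C.κ C.hN (.inl (.inl i)) ≠ C.D.p1.rev := by
  have h1 := C.D.p1_val
  have h2 := C.D.p1_rev_val
  have hκ : C.D.κ = C.κ := rfl
  rw [hκ] at h1 h2
  have := i.2
  constructor
  · intro e
    have := congrArg Fin.val e
    rw [h1] at this
    simp only [mIdx] at this
    omega
  · intro e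
    have := congrArg Fin.val e
    rw [h2] at this
    simp only [mIdx] at this
    omega

theorem mIdx_inr_ne (i : Fin (C.κ + 1)) :
    mIdx C.κ C.hN (.inl (.inr i)) ≠ C.D.p1 ∧ mIdx C.κ C.hN (.inl (.inr i)) ≠ C.D.p1.rev := by
  have h1 := C.D.p1_val
  have h2 := C.D.p1_rev_val
  have hκ : C.D.κ = C.κ := rfl
  rw [hκ] at h1 h2
  have := i.2
  have hN := C.hN
  constructor
  · intro e
    have := congrArg Fin.val e
    rw [h1] at this
    simp only [mIdx] at this
    omega
  · intro e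
    have := congrArg Fin.val e
    rw [h2] at this
    simp only [mIdx] at this
    omega

/-- the change of coordinates from the form of minus type to the hyperbolic form over `K` -/
noncomputable def MMg : GL (Fin N) K :=
  MM C.D.p1 C.D.p1_ne ω (C.cj ω) (C.cj_root_ne hab hω)

theorem MMg_mulVec (y : Fin N → K) :
    ((C.MMg hab hω : GL (Fin N) K) : Matrix (Fin N) (Fin N) K) *ᵥ y
      = mvF C.D.p1 ω (C.cj ω) y := MM_mulVec _ _ _ _ _ y

/-- the change of coordinates carries the form of minus type to the hyperbolic form -/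
theorem qv_MMg (y : Fin N → K) :
    qv (((C.MMg hab hω : GL (Fin N) K) : Matrix (Fin N) (Fin N) K) *ᵥ y)
      = qM C.κ C.hN (C.ι a) (C.ι b) y := by
  rw [MMg_mulVec, qv_eq_sum C.κ C.hN, qM_eq]
  have e1 : ∀ i : Fin (C.κ + 1), mvF C.D.p1 ω (C.cj ω) y (mIdx C.κ C.hN (.inl (.inl i)))
      = y (mIdx C.κ C.hN (.inl (.inl i))) := by
    intro i
    unfold mvF
    rw [if_neg (C.mIdx_inl_ne i).1, if_neg (C.mIdx_inl_ne i).2]
  have e2 : ∀ i : Fin (C.κ + 1), mvF C.D.p1 ω (C.cj ω) y (mIdx C.κ C.hN (.inl (.inr i)))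
      = y (mIdx C.κ C.hN (.inl (.inr i))) := by
    intro i
    unfold mvF
    rw [if_neg (C.mIdx_inr_ne i).1, if_neg (C.mIdx_inr_ne i).2]
  simp_rw [e1, e2]
  congr 1
  rw [C.mIdx_mid0, C.mIdx_mid1]
  unfold mvF
  rw [if_pos rfl, if_neg C.D.p1_ne.symm, if_pos rfl]
  have h1 := C.cj_root_add hab hω
  have h2 := C.cj_root_mul hab hω
  have e : (y C.D.p1 - ω * y C.D.p1.rev) * (y C.D.p1 - C.cj ω * y C.D.p1.rev)
      = y C.D.p1 ^ 2 - (C.cj ω + ω) * y C.D.p1 * y C.D.p1.rev
        + (ω * C.cj ω) * y C.D.p1.rev ^ 2 := by ring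
  rw [e, h1, h2]
  ring

/-- the conjugate of the change of coordinates -/
theorem cj_MMg (i k : Fin N) :
    C.cj (((C.MMg hab hω : GL (Fin N) K) : Matrix (Fin N) (Fin N) K) i k)
      = ((C.MMg hab hω : GL (Fin N) K) : Matrix (Fin N) (Fin N) K) (C.D.tau i) k := by
  unfold MMg
  rw [MM_apply, MM_apply]
  unfold mvF
  have hs : ∀ x : Fin N, C.cj ((Pi.single k (1 : K) : Fin N → K) x)
      = (Pi.single k (1 : K) : Fin N → K) x := by
    intro x
    by_cases h : x = k
    · rw [h, Pi.single_eq_same, map_one]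
    · rw [Pi.single_eq_of_ne h, map_zero]
  by_cases h1 : i = C.D.p1
  · have e : C.D.tau i = C.D.p1.rev := by
      rw [h1]
      unfold DC.tau
      rw [Equiv.swap_apply_left]
    rw [e, if_pos h1, if_neg C.D.p1_ne.symm, if_pos rfl, map_sub, map_mul, hs, hs]
  · by_cases h2 : i = C.D.p1.rev
    · have e : C.D.tau i = C.D.p1 := by
        rw [h2]
        unfold DC.tau
        rw [Equiv.swap_apply_right]
      rw [e, if_neg h1, if_pos h2, if_pos rfl, map_sub, map_mul, hs, hs, C.hcj]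
    · have e : C.D.tau i = i := by
        unfold DC.tau
        exact Equiv.swap_apply_of_ne_of_ne h1 h2
      rw [e, if_neg h1, if_neg h2, hs]

end MC

end Cfsg.Agent.AutPM
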