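import Cfsg.Agent.Lib.Lead.AutPM.Bridge1
import Mathlib

/-!
# The isometry group of the form of minus type is the twisted orthogonal group `GM` (lead)

`rxGL` : reindexing of `GL`; `isometry_map_iff` : base change of the isometries (every characteristic);
`MC.EE : GL((Fin m ⊕ Fin m) ⊕ Fin 2, F) →* GL_N(K)`, `g ↦ M ι(g) M⁻¹`; `MC.EE_mem_GM_iff`;
`MC.exists_EE_eq`; `MC.eIso : isometryGroup F (quadFormMinus (κ+1) F a b) ≃* GM`.
-/

set_option autoImplicit false

namespace Cfsg.Agent.AutPM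

open Matrix Cfsg Cfsg.Agent.RootBN Cfsg.Agent.Lib.Helper5.GLBN Cfsg.Agent.Lib.Helper8.SpBN
open Cfsg.Agent.Lib.Helper8.Tw Cfsg.Agent.PSUT Cfsg.Agent.Lib.Helper5.AutSU
open Cfsg.Agent.Lib.Helper5.AutDO
open scoped MatrixGroups

section rx

variable {n n' : Type*} [Fintype n] [DecidableEq n] [Fintype n'] [DecidableEq n']
  (R : Type*) {S : Type*} [CommRing R] [CommRing S] (e : n ≃ n')

/-- reindexing of the general linear group -/
noncomputable def rxGL : GL n R ≃* GL n' R :=
  Units.mapEquiv (Matrix.reindexAlgEquiv R R e).toRingEquiv.toMulEquiv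

theorem rxGL_coe (g : GL n R) :
    ((rxGL R e g : GL n' R) : Matrix n' n' R) = (g : Matrix n n R).submatrix e.symm e.symm := rfl

theorem rxGL_mulVec (g : GL n R) (y : n' → R) :
    (fun x => (((rxGL R e g : GL n' R) : Matrix n' n' R) *ᵥ y) (e x))
      = (g : Matrix n n R) *ᵥ (fun x => y (e x)) := by
  rw [rxGL_coe, Matrix.submatrix_mulVec_equiv]
  funext x
  simp only [Function.comp_apply, Equiv.symm_symm, Equiv.symm_apply_apply]
  rfl

theorem rxGL_map (ψ : R →+* S) (g : GL n R) :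
    rxGL S e (Matrix.GeneralLinearGroup.map ψ g) = Matrix.GeneralLinearGroup.map ψ (rxGL R e g) := by
  apply Units.ext
  ext a b
  rfl

theorem glmv_mul (A B : GL n R) (y : n → R) :
    ((A * B : GL n R) : Matrix n n R) *ᵥ y = (A : Matrix n n R) *ᵥ ((B : Matrix n n R) *ᵥ y) := by
  rw [Units.val_mul, Matrix.mulVec_mulVec]

theorem glmv_inv_cancel (A : GL n R) (y : n → R) :
    ((A⁻¹ : GL n R) : Matrix n n R) *ᵥ ((A : Matrix n n R) *ᵥ y) = y := by
  rw [← glmv_mul, inv_mul_cancel, Units.val_one, Matrix.one_mulVec]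

theorem glmv_cancel_inv (A : GL n R) (y : n → R) :
    (A : Matrix n n R) *ᵥ (((A⁻¹ : GL n R) : Matrix n n R) *ᵥ y) = y := by
  rw [← glmv_mul, mul_inv_cancel, Units.val_one, Matrix.one_mulVec]

end rx

variable {N : ℕ} {F K : Type*} [Field F] [Field K]

/-- base change of the isometries of the form of minus type -/
theorem isometry_map_iff (m : ℕ) (ι : F →+* K) (a b : F) (g : GL ((Fin m ⊕ Fin m) ⊕ Fin 2) F) :
    g ∈ isometryGroup F (quadFormMinus m F a b)
      ↔ Matrix.GeneralLinearGroup.map ι g ∈ isometryGroup K (quadFormMinus m K (ι a) (ι b)) := by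
  rw [mem_isometryGroup_iffP, mem_isometryGroup_iffP]
  simp only [quadFormMinus_eq_qA, ← AMinus_map ι a b]
  constructor
  · intro h w
    exact qA_isometry_map ι h w
  · intro h v
    exact qA_isometry_of_map ι ι.injective h v

namespace MC

variable (C : MC N F K) {a b : F} {ω : K}
  (hab : ∀ z₁ z₂ : F, z₁ ^ 2 + a * z₁ * z₂ + b * z₂ ^ 2 = 0 → z₁ = 0 ∧ z₂ = 0)
  (hω : ω ^ 2 + C.ι a * ω + C.ι b = 0)

/-- an isometry of the form of minus type over `K` becomes an isometry of the hyperbolic form -/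
theorem conj_mem_OQ_iff (h : GL ((Fin (C.κ + 1) ⊕ Fin (C.κ + 1)) ⊕ Fin 2) K) :
    C.MMg hab hω * rxGL K (mEquiv C.κ C.hN) h * (C.MMg hab hω)⁻¹ ∈ OQ N K C.even
      ↔ h ∈ isometryGroup K (quadFormMinus (C.κ + 1) K (C.ι a) (C.ι b)) := by
  rw [mem_OQ_iff_qv, mem_isometryGroup_iffP]
  have key : ∀ y' : Fin N → K,
      qM C.κ C.hN (C.ι a) (C.ι b)
        (((rxGL K (mEquiv C.κ C.hN) h : GL (Fin N) K) : Matrix (Fin N) (Fin N) K) *ᵥ y')
      = quadFormMinus (C.κ + 1) K (C.ι a) (C.ι b)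
          ((h : Matrix _ _ K) *ᵥ (fun x => y' (mEquiv C.κ C.hN x))) := by
    intro y'
    unfold qM
    rw [rxGL_mulVec]
  constructor
  · intro H w
    have := H (((C.MMg hab hω : GL (Fin N) K) : Matrix (Fin N) (Fin N) K)
      *ᵥ (fun i => w ((mEquiv C.κ C.hN).symm i)))
    rw [glmv_mul, glmv_mul, glmv_inv_cancel, qv_MMg, qv_MMg, key] at this
    unfold qM at this
    simpa using this
  · intro H y
    rw [glmv_mul, glmv_mul, qv_MMg, key, H]
    have e2 := C.qv_MMg hab hω ((((C.MMg hab hω)⁻¹ : GL (Fin N) K) : Matrix (Fin N) (Fin N) K) *ᵥ y)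
    rw [glmv_cancel_inv] at e2
    rw [e2]
    rfl

/-- the embedding of `GL(F)` of the statements into `GL_N(K)` -/
noncomputable def EE : GL ((Fin (C.κ + 1) ⊕ Fin (C.κ + 1)) ⊕ Fin 2) F →* GL (Fin N) K :=
  (MulAut.conj (C.MMg hab hω)).toMonoidHom.comp
    ((Matrix.GeneralLinearGroup.map C.ι).comp (rxGL F (mEquiv C.κ C.hN)).toMonoidHom)

theorem EE_apply (g : GL ((Fin (C.κ + 1) ⊕ Fin (C.κ + 1)) ⊕ Fin 2) F) :
    C.EE hab hω g = C.MMg hab hω
      * Matrix.GeneralLinearGroup.map C.ι (rxGL F (mEquiv C.κ C.hN) g) * (C.MMg hab hω)⁻¹ := rfl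

theorem EE_injective : Function.Injective (C.EE hab hω) := by
  intro g g' h
  rw [EE_apply, EE_apply] at h
  have h1 := mul_left_cancel (mul_right_cancel h)
  have h2 : Function.Injective (Matrix.GeneralLinearGroup.map (n := Fin N) C.ι) := by
    intro x y hxy
    apply Units.ext
    ext i j
    have := congrArg (fun X : GL (Fin N) K => (X : Matrix (Fin N) (Fin N) K) i j) hxy
    exact C.ι.injective this
  exact (rxGL F (mEquiv C.κ C.hN)).injective (h2 h1)

/-- the isometries correspond to the elements of the orthogonal group of the hyperbolic form -/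
theorem EE_mem_OQ_iff (g : GL ((Fin (C.κ + 1) ⊕ Fin (C.κ + 1)) ⊕ Fin 2) F) :
    C.EE hab hω g ∈ OQ N K C.even ↔ g ∈ isometryGroup F (quadFormMinus (C.κ + 1) F a b) := by
  rw [EE_apply, ← rxGL_map, C.conj_mem_OQ_iff hab hω, ← isometry_map_iff]

theorem ThG_MMg : C.ThG (C.MMg hab hω) = C.MMg hab hω * permGL C.D.tau := by
  apply Units.ext
  ext i j
  rw [ThG_apply, Units.val_mul, permGL_coe, mul_pm_apply, cj_MMg, C.D.tau_tau]

theorem ThG_map_ι (X : GL (Fin N) F) :
    C.ThG (Matrix.GeneralLinearGroup.map C.ι X)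
      = permGL C.D.tau * Matrix.GeneralLinearGroup.map C.ι X * (permGL C.D.tau)⁻¹ := by
  apply Units.ext
  ext i j
  rw [ThG_apply, ← map_inv, C.D.tau_inv, Units.val_mul, Units.val_mul, permGL_coe, Matrix.mul_assoc,
    pm_mul_apply, mul_pm_apply, C.D.tau_inv]
  show C.cj (C.ι _) = _
  rw [C.hι]
  rfl

/-- the image of the embedding is fixed by the twisting automorphism -/
theorem ThG_EE (g : GL ((Fin (C.κ + 1) ⊕ Fin (C.κ + 1)) ⊕ Fin 2) F) :
    C.ThG (C.EE hab hω g) = C.EE hab hω g := by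
  rw [EE_apply, map_mul, map_mul, map_inv, ThG_MMg, ThG_map_ι]
  have hP : (permGL C.D.tau : GL (Fin N) K) * permGL C.D.tau = 1 := by
    rw [← map_mul, C.D.tau_mul_self, map_one]
  have hPi : (permGL C.D.tau : GL (Fin N) K)⁻¹ = permGL C.D.tau := inv_eq_of_mul_eq_one_right hP
  rw [_root_.mul_inv_rev, hPi]
  calc C.MMg hab hω * permGL C.D.tau
        * (permGL C.D.tau * Matrix.GeneralLinearGroup.map C.ι (rxGL F (mEquiv C.κ C.hN) g)
          * permGL C.D.tau) * (permGL C.D.tau * (C.MMg hab hω)⁻¹)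
      = C.MMg hab hω * (permGL C.D.tau * permGL C.D.tau)
        * Matrix.GeneralLinearGroup.map C.ι (rxGL F (mEquiv C.κ C.hN) g)
        * (permGL C.D.tau * permGL C.D.tau) * (C.MMg hab hω)⁻¹ := by group
    _ = _ := by rw [hP, mul_one, mul_one]

theorem EE_mem_GM_iff (g : GL ((Fin (C.κ + 1) ⊕ Fin (C.κ + 1)) ⊕ Fin 2) F) :
    C.EE hab hω g ∈ C.GM ↔ g ∈ isometryGroup F (quadFormMinus (C.κ + 1) F a b) := by
  rw [mem_GM, C.EE_mem_OQ_iff hab hω]
  exact ⟨fun h => h.1, fun h => ⟨h, C.ThG_EE hab hω g⟩⟩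

theorem permGL_tau_sq : (permGL C.D.tau : GL (Fin N) K) * permGL C.D.tau = 1 := by
  rw [← map_mul, C.D.tau_mul_self, map_one]

theorem glMap_cj_MMg :
    Matrix.GeneralLinearGroup.map (C.cj : K →+* K) (C.MMg hab hω)
      = permGL C.D.tau * C.MMg hab hω := by
  apply Units.ext
  ext i j
  rw [Units.val_mul, permGL_coe, pm_mul_apply, C.D.tau_inv, ← cj_MMg]
  rfl

theorem glMap_cj_of_fix {h : GL (Fin N) K} (hh : C.ThG h = h) :
    Matrix.GeneralLinearGroup.map (C.cj : K →+* K) h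
      = permGL C.D.tau * h * permGL C.D.tau := by
  have e : C.ThG h = permGL C.D.tau * Matrix.GeneralLinearGroup.map (C.cj : K →+* K) h
      * (permGL C.D.tau)⁻¹ := rfl
  have hP := C.permGL_tau_sq
  have hPi : (permGL C.D.tau : GL (Fin N) K)⁻¹ = permGL C.D.tau := inv_eq_of_mul_eq_one_right hP
  rw [e, hPi] at hh
  calc Matrix.GeneralLinearGroup.map (C.cj : K →+* K) h
      = (permGL C.D.tau * permGL C.D.tau)
          * Matrix.GeneralLinearGroup.map (C.cj : K →+* K) h
          * (permGL C.D.tau * permGL C.D.tau) := by rw [hP, one_mul, mul_one]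
    _ = permGL C.D.tau * (permGL C.D.tau * Matrix.GeneralLinearGroup.map (C.cj : K →+* K) h
          * permGL C.D.tau) * permGL C.D.tau := by group
    _ = permGL C.D.tau * h * permGL C.D.tau := by rw [hh]

/-- a matrix fixed by the conjugation has its entries in the small field -/
theorem exists_glMap {B : GL (Fin N) K}
    (hB : Matrix.GeneralLinearGroup.map (C.cj : K →+* K) B = B) :
    ∃ B₀ : GL (Fin N) F, Matrix.GeneralLinearGroup.map C.ι B₀ = B := by
  have h1 : ∀ i j, ∃ x, C.ι x = (B : Matrix (Fin N) (Fin N) K) i j := by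
    intro i j
    apply C.hfix
    have := congrArg (fun X : GL (Fin N) K => (X : Matrix (Fin N) (Fin N) K) i j) hB
    exact this
  have hB' : Matrix.GeneralLinearGroup.map (C.cj : K →+* K) B⁻¹ = B⁻¹ := by
    rw [map_inv, hB]
  have h2 : ∀ i j, ∃ x, C.ι x = ((B⁻¹ : GL (Fin N) K) : Matrix (Fin N) (Fin N) K) i j := by
    intro i j
    apply C.hfix
    have := congrArg (fun X : GL (Fin N) K => (X : Matrix (Fin N) (Fin N) K) i j) hB'
    exact this
  choose f hf using h1
  choose f' hf' using h2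
  have e1 : (Matrix.of f).map C.ι = (B : Matrix (Fin N) (Fin N) K) := by
    ext i j
    exact hf i j
  have e2 : (Matrix.of f').map C.ι = ((B⁻¹ : GL (Fin N) K) : Matrix (Fin N) (Fin N) K) := by
    ext i j
    exact hf' i j
  have hinj : Function.Injective (fun M : Matrix (Fin N) (Fin N) F => M.map C.ι) :=
    Matrix.map_injective C.ι.injective
  have m1 : Matrix.of f * Matrix.of f' = 1 := by
    apply hinj
    show (Matrix.of f * Matrix.of f').map C.ι = (1 : Matrix (Fin N) (Fin N) F).map C.ι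
    rw [Matrix.map_mul, e1, e2, ← Units.val_mul, mul_inv_cancel, Units.val_one,
      Matrix.map_one _ (map_zero _) (map_one _)]
  have m2 : Matrix.of f' * Matrix.of f = 1 := by
    apply hinj
    show (Matrix.of f' * Matrix.of f).map C.ι = (1 : Matrix (Fin N) (Fin N) F).map C.ι
    rw [Matrix.map_mul, e1, e2, ← Units.val_mul, inv_mul_cancel, Units.val_one,
      Matrix.map_one _ (map_zero _) (map_one _)]
  refine ⟨⟨Matrix.of f, Matrix.of f', m1, m2⟩, ?_⟩
  apply Units.ext
  exact e1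

/-- the embedding is onto the orthogonal group of minus type -/
theorem exists_EE_eq {h : GL (Fin N) K} (hh : h ∈ C.GM) :
    ∃ g, C.EE hab hω g = h := by
  have hB : Matrix.GeneralLinearGroup.map (C.cj : K →+* K)
      ((C.MMg hab hω)⁻¹ * h * C.MMg hab hω) = (C.MMg hab hω)⁻¹ * h * C.MMg hab hω := by
    rw [map_mul, map_mul, map_inv, glMap_cj_MMg, C.glMap_cj_of_fix (C.mem_GM.1 hh).2]
    have hP := C.permGL_tau_sq
    calc (permGL C.D.tau * C.MMg hab hω)⁻¹ * (permGL C.D.tau * h * permGL C.D.tau)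
          * (permGL C.D.tau * C.MMg hab hω)
        = (C.MMg hab hω)⁻¹ * ((permGL C.D.tau)⁻¹ * permGL C.D.tau) * h
          * (permGL C.D.tau * permGL C.D.tau) * C.MMg hab hω := by group
      _ = (C.MMg hab hω)⁻¹ * h * C.MMg hab hω := by
        rw [hP, inv_mul_cancel, mul_one, mul_one]
  obtain ⟨B₀, hB₀⟩ := C.exists_glMap hB
  refine ⟨(rxGL F (mEquiv C.κ C.hN)).symm B₀, ?_⟩
  rw [EE_apply, MulEquiv.apply_symm_apply, hB₀]
  group

/-- **the isometry group of the form of minus type is the orthogonal group of minus type `GM`** -/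
noncomputable def eIso :
    ↥(isometryGroup F (quadFormMinus (C.κ + 1) F a b)) ≃* ↥C.GM :=
  MulEquiv.ofBijective
    (((C.EE hab hω).comp (isometryGroup F (quadFormMinus (C.κ + 1) F a b)).subtype).codRestrict C.GM
      (fun g => (C.EE_mem_GM_iff hab hω g.1).2 g.2))
    ⟨fun g g' h => Subtype.ext (C.EE_injective hab hω (congrArg Subtype.val h)), fun y => by
      obtain ⟨g, hg⟩ := C.exists_EE_eq hab hω y.2
      have hg' : g ∈ isometryGroup F (quadFormMinus (C.κ + 1) F a b) := by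
        rw [← C.EE_mem_GM_iff hab hω, hg]
        exact y.2
      exact ⟨⟨g, hg'⟩, Subtype.ext hg⟩⟩

theorem eIso_coe (g : ↥(isometryGroup F (quadFormMinus (C.κ + 1) F a b))) :
    ((C.eIso hab hω g : ↥C.GM) : GL (Fin N) K) = C.EE hab hω g.1 := rfl

end MC

end Cfsg.Agent.AutPM
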