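import Cfsg.Agent.Lib.Lead.AutPM.Descent
import Cfsg.Agent.Lib.Helper5.AutDM.RowClear
import Cfsg.Agent.Lib.Helper5.AutDO.Comm2
import Mathlib

/-!
# `Ω⁻_{2κ+4}`: the model is the commutator subgroup of the orthogonal group of minus type (lead)

`MC.PhiS_mem_G0` : the model `G0` is invariant under the compatible standard automorphisms; the
orthogonal group `GM` is generated by the image `EM` of the model, its diagonal elements and the
reflection `pM` swapping the two middle coordinates (`closure_eq_top`, from `GM_sharp`, helper5's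
twisted row clearing and the lifts of the Weyl group, taken as a hypothesis `hW`); these normalise the
model and commute modulo it (`[pM, t] = tM (dgT t_{p1})`), so `commutator ↥GM ≤ EM`; with the
perfectness of the model, `eGM : ↥G0 ≃* commutator ↥GM`.
-/

set_option autoImplicit false

namespace Cfsg.Agent.AutPM

open Matrix Cfsg Cfsg.Agent.Lib.Helper5.GLBN Cfsg.Agent.Lib.Helper8.SpBN
open Cfsg.Agent.Lib.Helper8.Tw Cfsg.Agent.PSUT Cfsg.Agent.Lib.Helper5.AutSU
open Cfsg.Agent.Lib.Helper5.AutDO Cfsg.Agent.RootBN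
open Cfsg.Agent.AutPSU (upT loT dgT moT ix)
open Cfsg.Agent.AutPO (sO fO tO PhiS idComm)
open scoped MatrixGroups

variable {N : ℕ} {F K : Type*} [Field F] [Field K]

namespace MC

variable (C : MC N F K)

/-- the model is invariant under the compatible standard automorphisms -/
theorem PhiS_mem_G0 (ψ : K ≃+* K) (d : Fin N → Kˣ) (μ : Kˣ)
    (hd : ∀ i, (d i : K) * (RingHom.id K) (d i.rev) = μ)
    (h1 : ∀ a : F, ∃ b : F, ψ (C.ι a) = C.ι b)
    (h2 : ∀ (i : ℕ) (hi : i ≤ C.κ), ∃ b : F,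
      (d (ix N i (by have := C.hN; omega)) : K) = C.ι b)
    (h3 : (d (ix N (C.κ + 1) (by have := C.hN; omega)).rev : K)
      = C.cj (d (ix N (C.κ + 1) (by have := C.hN; omega))))
    {g : SUm N K (RingHom.id K)} (hg : g ∈ C.G0) :
    PhiS ψ (idComm ψ) d μ hd g ∈ C.G0 := by
  have hN := C.hN
  have key : C.G0 ≤ C.G0.comap (PhiS ψ (idComm ψ) d μ hd).toMonoidHom := by
    apply C.G0_le
    · intro j hj x
      show ((PhiS ψ (idComm ψ) d μ hd).toMonoidHom.comp (C.sM j hj)) x ∈ C.G0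
      apply Cfsg.Agent.AutPSU.sl2_map_mem
      · intro t
        show PhiS ψ (idComm ψ) d μ hd (C.sM j hj (upT t)) ∈ C.G0
        obtain ⟨b, hb⟩ := h1 t
        obtain ⟨D0, hD0⟩ := h2 j (by omega)
        obtain ⟨D1, hD1⟩ := h2 (j + 1) (by omega)
        rw [sM_apply, Cfsg.Agent.AutPO.map_upT, Cfsg.Agent.AutPO.MCtx.PhiS_sO_upT]
        have e : (d (ix N j (by omega)) : K) * ψ (C.ι t) * ((d (ix N (j + 1) (by omega)))⁻¹ : Kˣ)
            = C.ι (D0 * b * D1⁻¹) := by
          rw [Units.val_inv_eq_inv_val, hD0, hD1, hb, map_mul, map_mul, map_inv₀]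
        rw [e, ← Cfsg.Agent.AutPO.map_upT, ← sM_apply]
        exact C.sM_mem_G0 j hj _
      · intro t
        show PhiS ψ (idComm ψ) d μ hd (C.sM j hj (loT t)) ∈ C.G0
        obtain ⟨b, hb⟩ := h1 t
        obtain ⟨D0, hD0⟩ := h2 j (by omega)
        obtain ⟨D1, hD1⟩ := h2 (j + 1) (by omega)
        rw [sM_apply, Cfsg.Agent.AutPO.map_loT, Cfsg.Agent.AutPO.MCtx.PhiS_sO_loT]
        have e : (d (ix N (j + 1) (by omega)) : K) * ψ (C.ι t) * ((d (ix N j (by omega)))⁻¹ : Kˣ)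
            = C.ι (D1 * b * D0⁻¹) := by
          rw [Units.val_inv_eq_inv_val, hD0, hD1, hb, map_mul, map_mul, map_inv₀]
        rw [e, ← Cfsg.Agent.AutPO.map_loT, ← sM_apply]
        exact C.sM_mem_G0 j hj _
    · intro x
      show ((PhiS ψ (idComm ψ) d μ hd).toMonoidHom.comp C.tM) x ∈ C.G0
      obtain ⟨D0, hD0⟩ := h2 C.κ le_rfl
      apply Cfsg.Agent.AutPSU.sl2_map_mem
      · intro t
        show PhiS ψ (idComm ψ) d μ hd (tO C.κ C.hN (C.cj : K →+* K) (upT t)) ∈ C.G0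
        rw [Cfsg.Agent.AutPO.MCtx.PhiS_tO_upT]
        have e : (d (ix N C.κ (by omega)) : K) * ψ ((C.cj : K →+* K) t)
            * ((d (ix N (C.κ + 1) (by omega)).rev)⁻¹ : Kˣ)
            = (C.cj : K →+* K) ((d (ix N C.κ (by omega)) : K) * ψ t
              * ((d (ix N (C.κ + 1) (by omega)))⁻¹ : Kˣ)) := by
          rw [Units.val_inv_eq_inv_val, Units.val_inv_eq_inv_val, h3, hD0, map_mul, map_mul,
            map_inv₀]
          show _ = C.cj (C.ι D0) * C.cj (ψ t) * _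
          rw [C.hι, ← C.cj_comm]
          rfl
        rw [e, ← Cfsg.Agent.AutPO.tO_upT]
        exact C.tM_mem_G0 _
      · intro t
        show PhiS ψ (idComm ψ) d μ hd (tO C.κ C.hN (C.cj : K →+* K) (loT t)) ∈ C.G0
        rw [Cfsg.Agent.AutPO.MCtx.PhiS_tO_loT]
        have e : (d (ix N (C.κ + 1) (by omega)).rev : K) * ψ ((C.cj : K →+* K) t)
            * ((d (ix N C.κ (by omega)))⁻¹ : Kˣ)
            = (C.cj : K →+* K) ((d (ix N (C.κ + 1) (by omega)) : K) * ψ t
              * ((d (ix N C.κ (by omega)))⁻¹ : Kˣ)) := by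
          rw [Units.val_inv_eq_inv_val, h3, hD0, map_mul, map_mul, map_inv₀]
          show _ = _ * C.cj (ψ t) * (C.cj (C.ι D0))⁻¹
          rw [C.hι, ← C.cj_comm]
          rfl
        rw [e, ← Cfsg.Agent.AutPO.tO_loT]
        exact C.tM_mem_G0 _
  exact key hg

section fin

set_option linter.unusedSectionVars false

variable [Fintype K]

/-- the elements of the model lie in the orthogonal group of minus type -/
theorem gl_mem_GM {g : SUm N K (RingHom.id K)} (hg : g ∈ C.G0) : gl g ∈ C.GM := by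
  refine C.mem_GM.2 ⟨(mem_OD_iff_OQ C.even).1 (C.G0_le_OD hg), ?_⟩
  rw [← gl_Th, C.mem_ThFix.1 (C.G0_le_ThFix hg)]

/-- the image of the model in `GL_N(K)` -/
noncomputable def G0m : Subgroup (GL (Fin N) K) := C.G0.map (glHom N K (RingHom.id K))

theorem mem_G0m {x : GL (Fin N) K} : x ∈ C.G0m ↔ ∃ g ∈ C.G0, gl g = x := Iff.rfl

theorem G0m_le_GM : C.G0m ≤ C.GM := by
  rintro _ ⟨g, hg, rfl⟩
  exact C.gl_mem_GM hg

/-- the unitriangular elements of the orthogonal group of minus type lie in the model -/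
theorem uni_mem_G0m {u : GL (Fin N) K} (hu : u ∈ C.GM)
    (hU : IsUni (u : Matrix (Fin N) (Fin N) K)) : u ∈ C.G0m := by
  obtain ⟨h1, h2⟩ := isUni_iff.1 hU
  have hUp : IsUpU (u : Matrix (Fin N) (Fin N) K) := ⟨h2, h1⟩
  obtain ⟨hu1, hu2⟩ := C.mem_GM.1 hu
  refine ⟨mk1 u (mem_OQ.1 hu1).1 (det_of_isUpU hUp), ?_, rfl⟩
  apply Cfsg.Agent.Lib.Helper5.AutDM.UM_le_G0 C
  refine ⟨hUp, C.mem_SM.2 ⟨?_, (mem_OD_iff_OQ C.even).2 hu1⟩⟩
  rw [C.mem_ThFix]
  apply gl_injective
  rw [gl_Th]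
  exact hu2

/-- the model inside the orthogonal group of minus type -/
noncomputable def EM : Subgroup ↥C.GM := C.G0m.subgroupOf C.GM

theorem mem_EM {x : ↥C.GM} : x ∈ C.EM ↔ ∃ g ∈ C.G0, gl g = (x : GL (Fin N) K) := Iff.rfl

theorem ThG_permGL_tau : C.ThG (permGL C.D.tau) = permGL C.D.tau := by
  apply Units.ext
  ext a b
  rw [ThG_apply, permGL_coe, pm_apply, pm_apply]
  by_cases h : a = C.D.tau b
  · rw [if_pos h, if_pos (by rw [h, C.D.tau_tau]), map_one]
  · rw [if_neg h, if_neg, map_zero]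
    intro e
    exact h (C.D.tau.injective e)

/-- the reflection swapping the two middle coordinates, in the orthogonal group of minus type -/
noncomputable def pM : ↥C.GM :=
  ⟨permGL C.D.tau, C.mem_GM.2 ⟨C.permGL_tau_mem_OQ, C.ThG_permGL_tau⟩⟩

theorem pM_coe : ((C.pM : ↥C.GM) : GL (Fin N) K) = permGL C.D.tau := rfl

theorem pM_inv : C.pM⁻¹ = C.pM := by
  apply Subtype.ext
  show (permGL C.D.tau : GL (Fin N) K)⁻¹ = permGL C.D.tau
  rw [← map_inv, C.D.tau_inv]

/-- a fixed point of the twisting automorphism is sent by the graph automorphism to its conjugate -/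
theorem Gam_eq_of_mem_ThFix {g : SUm N K (RingHom.id K)} (hg : g ∈ C.ThFix) :
    C.D.Gam g = Cfsg.Agent.AutPSU.fieldU C.cj (fun _ => rfl) g := by
  apply gl_injective
  apply Units.ext
  ext a b
  rw [C.D.Gam_apply, ← C.ThFix_apply hg]
  rfl

/-- the graph automorphism preserves the model -/
theorem Gam_mem_G0 {g : SUm N K (RingHom.id K)} (hg : g ∈ C.G0) : C.D.Gam g ∈ C.G0 := by
  rw [C.Gam_eq_of_mem_ThFix (C.G0_le_ThFix hg)]
  have hd : ∀ i : Fin N, (((1 : Kˣ)) : K) * (RingHom.id K) ((1 : Kˣ) : K) = ((1 : Kˣ) : K) := by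
    intro i
    simp
  have key := C.PhiS_mem_G0 C.cj (fun _ => 1) 1 hd (fun a => ⟨a, C.hι a⟩)
    (fun i hi => ⟨1, by simp⟩) (by simp) hg
  have e : PhiS C.cj (idComm C.cj) (fun _ => 1) 1 hd g
      = Cfsg.Agent.AutPSU.fieldU C.cj (fun _ => rfl) g := by
    apply gl_injective
    have h0 := Cfsg.Agent.AutPO.gl_PhiS C.cj (idComm C.cj) (fun _ => (1 : Kˣ)) 1 hd g
    rw [Cfsg.Agent.AutPSU.dgU_one, one_mul, inv_one, mul_one] at h0
    exact h0
  rw [← e]
  exact key

/-- the diagonal entries of a diagonal matrix, as units -/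
noncomputable def dOf {t : GL (Fin N) K} (hm : IsMono (t : Matrix (Fin N) (Fin N) K) 1) :
    Fin N → Kˣ := fun i =>
  Units.mk0 ((t : Matrix (Fin N) (Fin N) K) i i) (by
    have := hm.apply_ne_zero i
    rwa [Equiv.Perm.one_apply] at this)

theorem dOf_coe {t : GL (Fin N) K} (hm : IsMono (t : Matrix (Fin N) (Fin N) K) 1) (i : Fin N) :
    ((dOf hm i : Kˣ) : K) = (t : Matrix (Fin N) (Fin N) K) i i := rfl

theorem dgU_dOf {t : GL (Fin N) K} (hm : IsMono (t : Matrix (Fin N) (Fin N) K) 1) :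
    Cfsg.Agent.Lib.Helper8.AutSp.dgU (dOf hm) = t := by
  apply Units.ext
  rw [Cfsg.Agent.Lib.Helper8.AutSp.dgU_coe]
  exact (mono_one_eq_diagonal hm).symm

theorem mono_one_upper {t : GL (Fin N) K} (hm : IsMono (t : Matrix (Fin N) (Fin N) K) 1) :
    t ∈ upperTriangularGL N K := by
  rw [mem_upper]
  intro a b hba
  exact hm a b (by rw [Equiv.Perm.one_apply]; exact ne_of_gt hba)

/-- the diagonal entries of a diagonal element of the orthogonal group of minus type -/
theorem diag_GM {t : GL (Fin N) K} (ht : t ∈ C.GM) (a : Fin N) :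
    C.cj ((t : Matrix (Fin N) (Fin N) K) (C.D.tau a) (C.D.tau a))
      = (t : Matrix (Fin N) (Fin N) K) a a := by
  have h := (C.mem_GM.1 ht).2
  have := congrArg (fun X : GL (Fin N) K => (X : Matrix (Fin N) (Fin N) K) a a) h
  simp only [ThG_apply] at this
  exact this

theorem ix_p1 : ix N (C.κ + 1) (by have := C.hN; omega) = C.D.p1 := rfl

theorem tau_p1' : C.D.tau C.D.p1 = C.D.p1.rev := by
  unfold DC.tau
  rw [Equiv.swap_apply_left]

theorem tau_p1_rev' : C.D.tau C.D.p1.rev = C.D.p1 := by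
  unfold DC.tau
  rw [Equiv.swap_apply_right]

/-- the compatibility of the diagonal of a diagonal element of the orthogonal group of minus type -/
theorem dOf_compat {t : GL (Fin N) K} (ht : t ∈ C.GM)
    (hm : IsMono (t : Matrix (Fin N) (Fin N) K) 1) :
    (∀ i, ((dOf hm i : Kˣ) : K) * (RingHom.id K) (dOf hm i.rev : Kˣ) = ((1 : Kˣ) : K)) ∧
    (∀ (i : ℕ) (hi : i ≤ C.κ), ∃ b : F,
      (dOf hm (ix N i (by have := C.hN; omega)) : K) = C.ι b) ∧
    (dOf hm (ix N (C.κ + 1) (by have := C.hN; omega)).rev : K)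
      = C.cj (dOf hm (ix N (C.κ + 1) (by have := C.hN; omega))) := by
  have hN := C.hN
  refine ⟨fun i => ?_, fun i hi => ?_, ?_⟩
  · rw [dOf_coe, RingHom.id_apply, dOf_coe, Units.val_one]
    exact upper_diag_unitary (mono_one_upper hm) (mem_OQ.1 (C.mem_GM.1 ht).1).1 i
  · have e : C.D.tau (ix N i (by omega)) = ix N i (by omega) := by
      apply C.D.tau_fix
      · show i ≠ C.κ + 1
        omega
      · show i ≠ C.κ + 2
        omega
    obtain ⟨b, hb⟩ := C.hfix ((t : Matrix (Fin N) (Fin N) K) (ix N i (by omega)) (ix N i (by omega)))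
      (by
        have := C.diag_GM ht (ix N i (by omega))
        rw [e] at this
        exact this)
    exact ⟨b, hb.symm⟩
  · rw [dOf_coe, dOf_coe, C.ix_p1]
    have := C.diag_GM ht C.D.p1.rev
    rw [C.tau_p1_rev'] at this
    exact this.symm

/-- the diagonal elements of the orthogonal group of minus type normalise the model -/
theorem diag_conj_mem_G0m {t : GL (Fin N) K} (ht : t ∈ C.GM)
    (hm : IsMono (t : Matrix (Fin N) (Fin N) K) 1) {x : GL (Fin N) K} (hx : x ∈ C.G0m) :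
    t * x * t⁻¹ ∈ C.G0m := by
  obtain ⟨g, hg, rfl⟩ := hx
  obtain ⟨hd, h2, h3⟩ := C.dOf_compat ht hm
  have key := C.PhiS_mem_G0 (RingEquiv.refl K) (dOf hm) 1 hd (fun a => ⟨a, rfl⟩) h2 h3 hg
  refine ⟨_, key, ?_⟩
  have h0 := Cfsg.Agent.AutPO.gl_PhiS (RingEquiv.refl K) (idComm (RingEquiv.refl K)) (dOf hm) 1 hd g
  rw [dgU_dOf hm] at h0
  have e : Matrix.GeneralLinearGroup.map ((RingEquiv.refl K : K ≃+* K) : K →+* K)
      (Cfsg.Agent.AutPSU.gl g) = Cfsg.Agent.AutPSU.gl g := Units.ext (by ext i j; rfl)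
  rw [e] at h0
  exact h0

theorem diag_inv {t : GL (Fin N) K} (hm : IsMono (t : Matrix (Fin N) (Fin N) K) 1) :
    IsMono ((t⁻¹ : GL (Fin N) K) : Matrix (Fin N) (Fin N) K) 1 := by
  have := hm.inv
  rwa [inv_one] at this

/-- the torus element of the twisted node, as a diagonal matrix -/
theorem gl_tM_dgT (s : K) (hs : s ≠ 0) :
    gl (C.tM (dgT s hs))
      = Cfsg.Agent.Lib.Helper8.AutSp.dgU (fun x =>
          Cfsg.Agent.AutPSU.shortD (RingHom.id K) (Cfsg.Agent.AutPSU.quad C.κ C.hκN) s hs x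
          * Cfsg.Agent.AutPSU.shortD (RingHom.id K) (Cfsg.Agent.AutPO.forkQuad C.κ C.hN)
              (C.cj s) ((map_ne_zero C.cj).2 hs) x) := by
  have e : C.tM (dgT s hs) = sO C.κ C.hκN (dgT s hs)
      * fO C.κ C.hN (dgT (C.cj s) ((map_ne_zero C.cj).2 hs)) :=
    Cfsg.Agent.AutPO.tO_dgT C.κ C.hN (C.cj : K →+* K) s hs
  rw [e, gl_mul, ← Cfsg.Agent.AutPSU.dgU_mul, ← Cfsg.Agent.AutPSU.shortGL_dgT,
    ← Cfsg.Agent.AutPSU.shortGL_dgT]
  rfl

theorem permGL_conj_dgU (d : Fin N → Kˣ) :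
    (permGL C.D.tau : GL (Fin N) K) * Cfsg.Agent.Lib.Helper8.AutSp.dgU d * (permGL C.D.tau)⁻¹
      = Cfsg.Agent.Lib.Helper8.AutSp.dgU (fun x => d (C.D.tau x)) := by
  apply Units.ext
  ext a b
  rw [← map_inv, C.D.tau_inv, Units.val_mul, Units.val_mul, permGL_coe, Matrix.mul_assoc,
    pm_mul_apply, mul_pm_apply, C.D.tau_inv, Cfsg.Agent.Lib.Helper8.AutSp.dgU_coe,
    Cfsg.Agent.Lib.Helper8.AutSp.dgU_coe, Matrix.diagonal_apply, Matrix.diagonal_apply]
  by_cases h : a = b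
  · rw [if_pos h, if_pos (by rw [h])]
  · rw [if_neg h, if_neg (fun e => h (C.D.tau.injective e))]

/-- the commutator of the reflection with a diagonal element lies in the model -/
theorem comm_pM_diag {t : GL (Fin N) K} (ht : t ∈ C.GM)
    (hm : IsMono (t : Matrix (Fin N) (Fin N) K) 1) :
    permGL C.D.tau * t * (permGL C.D.tau)⁻¹ * t⁻¹ ∈ C.G0m := by
  have hN := C.hN
  obtain ⟨hd, -, h3⟩ := C.dOf_compat ht hm
  rw [C.ix_p1] at h3
  set d := dOf hm with hd_def
  have hs : (d C.D.p1 : K) ≠ 0 := (d C.D.p1).ne_zero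
  have hnorm : (d C.D.p1 : K) * C.cj (d C.D.p1) = 1 := by
    have := hd C.D.p1
    rw [RingHom.id_apply, h3, Units.val_one] at this
    exact this
  have hcjs : C.cj (d C.D.p1 : K) = (d C.D.p1 : K)⁻¹ := eq_inv_of_mul_eq_one_right hnorm
  refine ⟨C.tM (dgT (d C.D.p1 : K) hs), C.tM_mem_G0 _, ?_⟩
  show gl (C.tM (dgT (d C.D.p1 : K) hs)) = _
  rw [C.gl_tM_dgT]
  conv_rhs => rw [← dgU_dOf hm, C.permGL_conj_dgU, Cfsg.Agent.Lib.Helper8.AutSp.dgU_inv,
    Cfsg.Agent.AutPSU.dgU_mul]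
  congr 1
  funext x
  apply Units.ext
  rw [Units.val_mul, Units.val_mul, Units.val_inv_eq_inv_val]
  have q1 := Cfsg.Agent.AutPSU.quad (N := N) C.κ C.hκN
  have q2 := Cfsg.Agent.AutPO.forkQuad (N := N) C.κ C.hN
  have hκ' : C.D.κ = C.κ := rfl
  have t1 : C.D.tau (ix N (C.κ + 1) (by omega)) = (ix N (C.κ + 1) (by omega)).rev := C.tau_p1'
  have t2 : C.D.tau (ix N (C.κ + 1) (by omega)).rev = ix N (C.κ + 1) (by omega) := C.tau_p1_rev'
  have h3' : (d (ix N (C.κ + 1) (by omega)).rev : K) = C.cj (d (ix N (C.κ + 1) (by omega))) := h3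
  have hnorm' : (d (ix N (C.κ + 1) (by omega)) : K) * C.cj (d (ix N (C.κ + 1) (by omega))) = 1 :=
    hnorm
  by_cases h0 : x = ix N C.κ (by omega)
  · have et : C.D.tau x = x := by
      rw [h0]
      apply C.D.tau_fix
      · show C.κ ≠ C.D.κ + 1
        omega
      · show C.κ ≠ C.D.κ + 2
        omega
    rw [et, mul_inv_cancel₀ (d x).ne_zero, h0, Cfsg.Agent.AutPSU.shortD_i₀,
      Cfsg.Agent.AutPSU.shortD_i₀]
    exact hnorm
  by_cases h1 : x = ix N (C.κ + 1) (by omega)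
  · rw [h1, t1, h3']
    have a1 := Cfsg.Agent.AutPSU.shortD_i₁ (RingHom.id K) q1 (d C.D.p1 : K) hs
    have a2 := Cfsg.Agent.AutPSU.shortD_i₁_rev (RingHom.id K) q2 (C.cj (d C.D.p1 : K))
      ((map_ne_zero C.cj).2 hs)
    rw [Fin.rev_rev] at a2
    rw [a1, a2, RingHom.id_apply]
    exact mul_comm _ _
  by_cases h2 : x = (ix N (C.κ + 1) (by omega)).rev
  · rw [h2, t2, h3']
    have a1 := Cfsg.Agent.AutPSU.shortD_i₁_rev (RingHom.id K) q1 (d C.D.p1 : K) hs
    have a2 := Cfsg.Agent.AutPSU.shortD_i₁ (RingHom.id K) q2 (C.cj (d C.D.p1 : K))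
      ((map_ne_zero C.cj).2 hs)
    rw [a1, a2, RingHom.id_apply]
    rfl
  by_cases h4 : x = (ix N C.κ (by omega)).rev
  · have et : C.D.tau x = x := by
      rw [h4]
      apply C.D.tau_fix
      · rw [Cfsg.Agent.AutPSU.ix_rev_val]
        omega
      · rw [Cfsg.Agent.AutPSU.ix_rev_val]
        omega
    rw [et, mul_inv_cancel₀ (d x).ne_zero, h4, Cfsg.Agent.AutPSU.shortD_i₀_rev,
      Cfsg.Agent.AutPSU.shortD_i₀_rev, RingHom.id_apply, RingHom.id_apply, ← mul_inv, hnorm, inv_one]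
  · have et : C.D.tau x = x := by
      unfold DC.tau
      exact Equiv.swap_apply_of_ne_of_ne h1 h2
    rw [et, mul_inv_cancel₀ (d x).ne_zero,
      Cfsg.Agent.AutPSU.shortD_other (RingHom.id K) q1 _ _ x h0 h1 h2 h4,
      Cfsg.Agent.AutPSU.shortD_other (RingHom.id K) q2 _ _ x h0 h2
        (by rw [Fin.rev_rev]; exact h1) h4, Units.val_one, mul_one]

/-- the generators outside the model: the diagonal elements and the reflection -/
def SG : Set ↥C.GM :=
  {s | IsMono ((s : GL (Fin N) K) : Matrix (Fin N) (Fin N) K) 1} ∪ {C.pM}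

/-- the generators normalise the model -/
theorem SG_normalizes {s : ↥C.GM} (hs : s ∈ C.SG) {x : ↥C.GM} (hx : x ∈ C.EM) :
    s * x * s⁻¹ ∈ C.EM ∧ s⁻¹ * x * s ∈ C.EM := by
  have hx' : (x : GL (Fin N) K) ∈ C.G0m := hx
  rcases hs with h1 | hs
  · constructor
    · exact C.diag_conj_mem_G0m s.2 h1 hx'
    · have := C.diag_conj_mem_G0m (inv_mem s.2) (diag_inv h1) hx'
      rw [inv_inv] at this
      exact this
  · rw [Set.mem_singleton_iff] at hs
    have key : C.pM * x * C.pM⁻¹ ∈ C.EM := by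
      obtain ⟨g, hg, hgx⟩ := hx'
      refine ⟨C.D.Gam g, C.Gam_mem_G0 hg, ?_⟩
      show gl (C.D.Gam g) = permGL C.D.tau * (x : GL (Fin N) K) * (permGL C.D.tau)⁻¹
      rw [C.D.gl_Gam]
      congr 2
    rw [hs]
    refine ⟨key, ?_⟩
    have e : C.pM⁻¹ * x * C.pM = C.pM * x * C.pM⁻¹ := by
      rw [C.pM_inv]
    rw [e]
    exact key

/-- the generators commute modulo the model -/
theorem SG_comm {s s' : ↥C.GM} (hs : s ∈ C.SG) (hs' : s' ∈ C.SG) :
    s * s' * s⁻¹ * s'⁻¹ ∈ C.EM := by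
  rcases hs with h1 | hs <;> rcases hs' with h1' | hs'
  · have e : s * s' * s⁻¹ * s'⁻¹ = 1 := by
      have : s * s' = s' * s := Subtype.ext (mono_one_commute h1 h1')
      rw [this]
      group
    rw [e]
    exact one_mem _
  · rw [Set.mem_singleton_iff] at hs'
    rw [hs']
    have key : C.pM * s * C.pM⁻¹ * s⁻¹ ∈ C.EM := C.comm_pM_diag s.2 h1
    have e : s * C.pM * s⁻¹ * C.pM⁻¹ = (C.pM * s * C.pM⁻¹ * s⁻¹)⁻¹ := by group
    rw [e]
    exact inv_mem key
  · rw [Set.mem_singleton_iff] at hs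
    rw [hs]
    exact C.comm_pM_diag s'.2 h1'
  · rw [Set.mem_singleton_iff] at hs hs'
    rw [hs, hs']
    have e : C.pM * C.pM * C.pM⁻¹ * C.pM⁻¹ = 1 := by group
    rw [e]
    exact one_mem _

/-- a diagonal element lies in the subgroup generated by the model and the generators -/
theorem diag_mem_closure {t : ↥C.GM}
    (ht : IsMono ((t : GL (Fin N) K) : Matrix (Fin N) (Fin N) K) 1) :
    t ∈ Subgroup.closure (((C.EM : Subgroup ↥C.GM) : Set ↥C.GM) ∪ C.SG) :=
  Subgroup.subset_closure (Or.inr (Or.inl ht))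

/-- the permutation of a monomial element of the orthogonal group of minus type commutes with the
swap of the two middle coordinates -/
theorem tau_conj_of_mem_GM {ν : GL (Fin N) K} {π : Equiv.Perm (Fin N)} (hν0 : ν ∈ C.GM)
    (hν : IsMono (ν : Matrix (Fin N) (Fin N) K) π) : C.D.tau * π * C.D.tau = π := by
  have h1 := C.ThG_isMono hν
  rw [(C.mem_GM.1 hν0).2] at h1
  exact h1.unique hν

/-- the orthogonal group of minus type is generated by the model, its diagonal elements and the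
reflection (given the lifts of the Weyl group) -/
theorem closure_eq_top
    (hW : ∀ π : Equiv.Perm (Fin N), revC π = π → C.D.tau * π * C.D.tau = π →
      ∃ n ∈ C.G0, IsMono ((gl n : GL (Fin N) K) : Matrix (Fin N) (Fin N) K) π ∨
        IsMono ((gl n : GL (Fin N) K) : Matrix (Fin N) (Fin N) K) (π * C.D.tau)) :
    Subgroup.closure (((C.EM : Subgroup ↥C.GM) : Set ↥C.GM) ∪ C.SG) = ⊤ := by
  rw [eq_top_iff]
  intro g _
  obtain ⟨u, ν, w, π, hu, hν, hw, e, hu', hν', hw'⟩ := C.GM_sharp g.2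
  have e' : g = (⟨u, hu'⟩ : ↥C.GM) * ⟨ν, hν'⟩ * ⟨w, hw'⟩ := Subtype.ext e
  rw [e']
  refine mul_mem (mul_mem ?_ ?_) ?_
  · exact Subgroup.subset_closure (Or.inl (C.uni_mem_G0m hu' hu))
  · have hrev : revC π = π := revC_of_mem_UH (mem_OQ.1 (C.mem_GM.1 hν').1).1 hν
    have htau := C.tau_conj_of_mem_GM hν' hν
    obtain ⟨n, hn, hn'⟩ := hW π hrev htau
    let eN : ↥C.GM := ⟨gl n, C.gl_mem_GM hn⟩
    have heN : eN ∈ C.EM := ⟨n, hn, rfl⟩
    rcases hn' with hn' | hn'
    · have ht : IsMono ((((⟨ν, hν'⟩ : ↥C.GM) * eN⁻¹ : ↥C.GM) : GL (Fin N) K)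
          : Matrix (Fin N) (Fin N) K) 1 := by
        have h1 := hν.mul hn'.inv
        rw [mul_inv_cancel] at h1
        exact h1
      have e2 : (⟨ν, hν'⟩ : ↥C.GM) = ((⟨ν, hν'⟩ : ↥C.GM) * eN⁻¹) * eN := by group
      rw [e2]
      exact mul_mem (C.diag_mem_closure ht) (Subgroup.subset_closure (Or.inl heN))
    · have ht : IsMono ((((⟨ν, hν'⟩ : ↥C.GM) * C.pM * eN⁻¹ : ↥C.GM) : GL (Fin N) K)
          : Matrix (Fin N) (Fin N) K) 1 := by
        have h1 := (hν.mul (isMono_permGL (F := K) C.D.tau)).mul hn'.inv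
        rw [mul_inv_cancel] at h1
        exact h1
      have e2 : (⟨ν, hν'⟩ : ↥C.GM) = ((⟨ν, hν'⟩ : ↥C.GM) * C.pM * eN⁻¹) * eN * C.pM⁻¹ := by group
      rw [e2]
      exact mul_mem (mul_mem (C.diag_mem_closure ht) (Subgroup.subset_closure (Or.inl heN)))
        (inv_mem (Subgroup.subset_closure (Or.inr (Or.inr rfl))))
  · exact Subgroup.subset_closure (Or.inl (C.uni_mem_G0m hw' hw.isUni))

/-- the commutator subgroup of the orthogonal group of minus type lies in the model -/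
theorem commutator_GM_le
    (hW : ∀ π : Equiv.Perm (Fin N), revC π = π → C.D.tau * π * C.D.tau = π →
      ∃ n ∈ C.G0, IsMono ((gl n : GL (Fin N) K) : Matrix (Fin N) (Fin N) K) π ∨
        IsMono ((gl n : GL (Fin N) K) : Matrix (Fin N) (Fin N) K) (π * C.D.tau)) :
    commutator ↥C.GM ≤ C.EM := by
  apply commutator_le_of_gen C.EM C.SG (C.closure_eq_top hW)
  · intro s hs x hx
    exact C.SG_normalizes hs hx
  · intro s hs s' hs'
    exact C.SG_comm hs hs'

/-- the model, as a subgroup of the orthogonal group of minus type -/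
noncomputable def toGM : ↥C.G0 →* ↥C.GM where
  toFun g := ⟨gl g.1, C.gl_mem_GM g.2⟩
  map_one' := Subtype.ext gl_one
  map_mul' _ _ := Subtype.ext (gl_mul _ _)

theorem toGM_coe (g : ↥C.G0) : ((C.toGM g : ↥C.GM) : GL (Fin N) K) = gl g.1 := rfl

theorem toGM_injective : Function.Injective C.toGM := by
  intro a b h
  have h1 : gl a.1 = gl b.1 := congrArg (fun x : ↥C.GM => (x : GL (Fin N) K)) h
  exact Subtype.ext (gl_injective h1)

theorem range_toGM : C.toGM.range = C.EM := by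
  ext x
  constructor
  · rintro ⟨g, rfl⟩
    exact ⟨g.1, g.2, rfl⟩
  · rintro ⟨g, hg, e⟩
    exact ⟨⟨g, hg⟩, Subtype.ext e⟩

/-- **the model is the commutator subgroup of the orthogonal group of minus type** -/
theorem commutator_GM_eq
    (hW : ∀ π : Equiv.Perm (Fin N), revC π = π → C.D.tau * π * C.D.tau = π →
      ∃ n ∈ C.G0, IsMono ((gl n : GL (Fin N) K) : Matrix (Fin N) (Fin N) K) π ∨
        IsMono ((gl n : GL (Fin N) K) : Matrix (Fin N) (Fin N) K) (π * C.D.tau))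
    (hperf : commutator ↥C.G0 = ⊤) : commutator ↥C.GM = C.EM := by
  apply le_antisymm (C.commutator_GM_le hW)
  rw [← C.range_toGM, MonoidHom.range_eq_map, ← hperf, commutator_def, commutator_def,
    Subgroup.map_commutator]
  exact Subgroup.commutator_mono le_top le_top

/-- the identification of the model with the commutator subgroup of the orthogonal group of minus
type -/
noncomputable def eGM
    (hW : ∀ π : Equiv.Perm (Fin N), revC π = π → C.D.tau * π * C.D.tau = π →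
      ∃ n ∈ C.G0, IsMono ((gl n : GL (Fin N) K) : Matrix (Fin N) (Fin N) K) π ∨
        IsMono ((gl n : GL (Fin N) K) : Matrix (Fin N) (Fin N) K) (π * C.D.tau))
    (hperf : commutator ↥C.G0 = ⊤) : ↥C.G0 ≃* ↥(commutator ↥C.GM) :=
  MulEquiv.ofBijective
    (C.toGM.codRestrict (commutator ↥C.GM) (fun g => by
      rw [C.commutator_GM_eq hW hperf, ← C.range_toGM]
      exact ⟨g, rfl⟩))
    ⟨fun a b h => C.toGM_injective (congrArg Subtype.val h), fun y => by
      have hy : (y : ↥C.GM) ∈ C.toGM.range := by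
        rw [C.range_toGM, ← C.commutator_GM_eq hW hperf]
        exact y.2
      obtain ⟨g, hg⟩ := hy
      exact ⟨g, Subtype.ext hg⟩⟩

theorem eGM_coe
    (hW : ∀ π : Equiv.Perm (Fin N), revC π = π → C.D.tau * π * C.D.tau = π →
      ∃ n ∈ C.G0, IsMono ((gl n : GL (Fin N) K) : Matrix (Fin N) (Fin N) K) π ∨
        IsMono ((gl n : GL (Fin N) K) : Matrix (Fin N) (Fin N) K) (π * C.D.tau))
    (hperf : commutator ↥C.G0 = ⊤) (g : ↥C.G0) :
    (((C.eGM hW hperf g : ↥(commutator ↥C.GM)) : ↥C.GM) : GL (Fin N) K) = gl g.1 := rfl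

end fin

end MC

end Cfsg.Agent.AutPM
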