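import Cfsg.Agent.Lib.Lead.AutPM.Comm
import Cfsg.Agent.Lib.Lead.AutPM.Bridge2
import Mathlib

/-!
# `PΩ⁻_{2κ+4}(F)`: every automorphism is induced by a semisimilarity — the assembly (lead)

`MC.eG0 : ↥G0 ≃* Omega F (quadFormMinus (κ+1) F a b)`, `MC.fM : ↥G0 →* POmega ..` (surjective, kernel
the centre), `MC.ctx : MCtx N F K (POmega ..)` with `ctx_PhiSInv`, `ctx_gen`; `compat_cj`, `ThG_dgU`,
`glMap_cj_descent`, `exists_restrict`; `semisim_of_twisted`, `EE_conj` (from a twisted similitude `A` of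
the model and a field automorphism `ψ` to the semisimilarity `M⁻¹ A ψ(M)` of the statements);
**`MC.facM`** : the theorem, given the lifts of the Weyl group (`hW`), the perfectness (`hperf`) and the
centre (`hZ`) of the model and the normal form of the automorphisms (`hNF`).
-/

set_option autoImplicit false

namespace Cfsg.Agent.AutPM

open Matrix Cfsg Cfsg.Agent.Lib.Helper5.GLBN Cfsg.Agent.Lib.Helper8.SpBN
open Cfsg.Agent.Lib.Helper8.Tw Cfsg.Agent.PSUT Cfsg.Agent.Lib.Helper5.AutSU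
open Cfsg.Agent.Lib.Helper5.AutDO Cfsg.Agent.RootBN
open Cfsg.Agent.AutPSU (upT loT dgT moT ix)
open Cfsg.Agent.AutPO (sO fO tO PhiS idComm MCtx)
open scoped MatrixGroups

set_option linter.unusedSectionVars false

variable {N : ℕ} {F K : Type*} [Field F] [Field K] [Fintype K]

namespace MC

variable (C : MC N F K) {a b : F} {ω : K}
  (hab : ∀ z₁ z₂ : F, z₁ ^ 2 + a * z₁ * z₂ + b * z₂ ^ 2 = 0 → z₁ = 0 ∧ z₂ = 0)
  (hω : ω ^ 2 + C.ι a * ω + C.ι b = 0)
  (hW : ∀ π : Equiv.Perm (Fin N), revC π = π → C.D.tau * π * C.D.tau = π →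
      ∃ n ∈ C.G0, IsMono ((gl n : GL (Fin N) K) : Matrix (Fin N) (Fin N) K) π ∨
        IsMono ((gl n : GL (Fin N) K) : Matrix (Fin N) (Fin N) K) (π * C.D.tau))
  (hperf : commutator ↥C.G0 = ⊤)

/-- the identification of `Ω⁻` with the commutator subgroup of `GM` -/
noncomputable def eOmM :
    ↥(Omega F (quadFormMinus (C.κ + 1) F a b)) ≃* ↥(commutator ↥C.GM) :=
  commutatorEquiv (C.eIso hab hω)

theorem eOmM_coe (s : ↥(Omega F (quadFormMinus (C.κ + 1) F a b))) :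
    (((C.eOmM hab hω s : ↥(commutator ↥C.GM)) : ↥C.GM) : GL (Fin N) K)
      = C.EE hab hω ((s : ↥(isometryGroup F (quadFormMinus (C.κ + 1) F a b))) : GL _ F) := rfl

/-- the identification of the model with `Ω⁻` -/
noncomputable def eG0 : ↥C.G0 ≃* ↥(Omega F (quadFormMinus (C.κ + 1) F a b)) :=
  (C.eGM hW hperf).trans (C.eOmM hab hω).symm

theorem eG0_spec (g : ↥C.G0) :
    C.EE hab hω (((C.eG0 hab hω hW hperf g : ↥(Omega F (quadFormMinus (C.κ + 1) F a b)))
      : ↥(isometryGroup F (quadFormMinus (C.κ + 1) F a b))) : GL _ F) = gl g.1 := by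
  rw [← eOmM_coe]
  unfold eG0
  rw [MulEquiv.trans_apply, MulEquiv.apply_symm_apply]
  rfl

/-- the projection of the model onto `PΩ⁻` -/
noncomputable def fM : ↥C.G0 →* POmega F (quadFormMinus (C.κ + 1) F a b) :=
  (QuotientGroup.mk' (Subgroup.center ↥(Omega F (quadFormMinus (C.κ + 1) F a b)))).comp
    (C.eG0 hab hω hW hperf).toMonoidHom

theorem fM_apply (g : ↥C.G0) :
    C.fM hab hω hW hperf g = QuotientGroup.mk (C.eG0 hab hω hW hperf g) := rfl

theorem fM_surjective : Function.Surjective (C.fM hab hω hW hperf) := by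
  intro x
  obtain ⟨s, rfl⟩ := QuotientGroup.mk'_surjective _ x
  exact ⟨(C.eG0 hab hω hW hperf).symm s, by rw [fM_apply, MulEquiv.apply_symm_apply]; rfl⟩

theorem fM_ker : (C.fM hab hω hW hperf).ker = Subgroup.center ↥C.G0 := by
  ext g
  rw [MonoidHom.mem_ker, fM_apply, QuotientGroup.eq_one_iff,
    ← map_center_eq (C.eG0 hab hω hW hperf)]
  constructor
  · rintro ⟨g', hg', e⟩
    have : g' = g := (C.eG0 hab hω hW hperf).injective e
    rw [← this]
    exact hg'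
  · intro hg
    exact ⟨g, hg, rfl⟩

variable (hZ : ∀ g : ↥C.G0, g ∈ Subgroup.center ↥C.G0 → ∃ c : K,
    ((gl g.1 : GL (Fin N) K) : Matrix (Fin N) (Fin N) K) = Matrix.diagonal fun _ => c)

/-- the context of the model theorem -/
noncomputable def ctx : MCtx N F K (POmega F (quadFormMinus (C.κ + 1) F a b)) where
  κ := C.κ
  hN := C.hN
  ι := C.ι
  cj := (C.cj : K →+* K)
  hι := C.hι
  hcomm := C.cj_comm
  G0 := C.G0
  f := C.fM hab hω hW hperf
  hf := C.fM_surjective hab hω hW hperf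
  hker := C.fM_ker hab hω hW hperf
  hZ := hZ
  hS := fun j hj x => C.sM_mem_G0 j hj x
  hT := fun x => C.tM_mem_G0 x

theorem ctx_PhiSInv : (C.ctx hab hω hW hperf hZ).PhiSInv := by
  intro ψ d μ hd hc g hg
  obtain ⟨h1, h2, h3⟩ := hc
  exact C.PhiS_mem_G0 ψ d μ hd h1 h2 h3 hg

theorem ctx_gen (H : Subgroup ↥C.G0)
    (h1 : ∀ i (hi : i < C.κ) t, (C.ctx hab hω hW hperf hZ).sN i hi (upT t) ∈ H
      ∧ (C.ctx hab hω hW hperf hZ).sN i hi (loT t) ∈ H)
    (h2 : ∀ t, (C.ctx hab hω hW hperf hZ).tN (upT t) ∈ H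
      ∧ (C.ctx hab hω hW hperf hZ).tN (loT t) ∈ H) : H = ⊤ := by
  rw [eq_top_iff]
  have key : C.G0 ≤ H.map C.G0.subtype := by
    apply C.G0_le
    · intro j hj x
      apply Cfsg.Agent.AutPSU.sl2_map_mem (C.sM j hj)
      · intro t
        exact ⟨_, (h1 j hj t).1, rfl⟩
      · intro t
        exact ⟨_, (h1 j hj t).2, rfl⟩
    · intro x
      apply Cfsg.Agent.AutPSU.sl2_map_mem C.tM
      · intro t
        exact ⟨_, (h2 t).1, rfl⟩
      · intro t
        exact ⟨_, (h2 t).2, rfl⟩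
  intro g _
  obtain ⟨g', hg', e⟩ := key g.2
  have : g' = g := Subtype.ext e
  rw [← this]
  exact hg'

/-- a compatible diagonal matrix is fixed by the twisting automorphism -/
theorem compat_cj (d : Fin N → Kˣ) (μ : Kˣ)
    (hd : ∀ i, (d i : K) * (RingHom.id K) (d i.rev) = μ)
    (h2 : ∀ (i : ℕ) (hi : i ≤ C.κ), ∃ b : F,
      (d (ix N i (by have := C.hN; omega)) : K) = C.ι b)
    (h3 : (d (ix N (C.κ + 1) (by have := C.hN; omega)).rev : K)
      = C.cj (d (ix N (C.κ + 1) (by have := C.hN; omega)))) :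
    C.cj (μ : K) = μ ∧ ∀ a : Fin N, C.cj (d (C.D.tau a) : K) = d a := by
  have hN := C.hN
  have hκ' : C.D.κ = C.κ := rfl
  have t1 : C.D.tau (ix N (C.κ + 1) (by omega)) = (ix N (C.κ + 1) (by omega)).rev := C.tau_p1'
  have t2 : C.D.tau (ix N (C.κ + 1) (by omega)).rev = ix N (C.κ + 1) (by omega) := C.tau_p1_rev'
  have hμ : C.cj (μ : K) = μ := by
    rw [← hd (ix N (C.κ + 1) (by omega)), RingHom.id_apply, h3, map_mul, C.hcj, mul_comm]
  refine ⟨hμ, fun a => ?_⟩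
  have hlow : ∀ (i : ℕ) (hi : i ≤ C.κ), C.D.tau (ix N i (by omega)) = ix N i (by omega) ∧
      C.cj (d (ix N i (by omega)) : K) = d (ix N i (by omega)) := by
    intro i hi
    constructor
    · apply C.D.tau_fix
      · show i ≠ C.D.κ + 1
        omega
      · show i ≠ C.D.κ + 2
        omega
    · obtain ⟨b, hb⟩ := h2 i hi
      rw [hb, C.hι]
  by_cases h0 : (a : ℕ) ≤ C.κ
  · have e : a = ix N a (by omega) := rfl
    rw [e, (hlow a h0).1, (hlow a h0).2]
  by_cases h1 : a = ix N (C.κ + 1) (by omega)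
  · rw [h1, t1, h3, C.hcj]
  by_cases h2' : a = (ix N (C.κ + 1) (by omega)).rev
  · rw [h2', t2, h3]
  · -- `a` is the mirror of a low index
    have ha : (a : ℕ) ≠ C.κ + 1 := fun e => h1 (Fin.ext e)
    have ha' : (a : ℕ) ≠ C.κ + 2 := by
      intro e
      apply h2'
      apply Fin.ext
      rw [Cfsg.Agent.AutPSU.ix_rev_val]
      omega
    have et : C.D.tau a = a := C.D.tau_fix a (by omega) (by omega)
    have hr : a.rev = ix N (N - 1 - a) (by omega) := by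
      apply Fin.ext
      rw [Fin.val_rev]
      show _ = N - 1 - (a : ℕ)
      omega
    have hlo := hlow (N - 1 - a) (by have := a.2; omega)
    have h5 := hd a
    rw [RingHom.id_apply] at h5
    have h6 : (d a.rev : K) ≠ 0 := (d a.rev).ne_zero
    have h7 : (d a : K) = μ * (d a.rev : K)⁻¹ := by
      rw [← h5]
      field_simp
    rw [et, h7, map_mul, map_inv₀, hμ, hr, hlo.2]

theorem ThG_dgU (d : Fin N → Kˣ) (h : ∀ a : Fin N, C.cj (d (C.D.tau a) : K) = d a) :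
    C.ThG (Cfsg.Agent.Lib.Helper8.AutSp.dgU d) = Cfsg.Agent.Lib.Helper8.AutSp.dgU d := by
  apply Units.ext
  ext a b
  rw [ThG_apply, Cfsg.Agent.Lib.Helper8.AutSp.dgU_coe, Matrix.diagonal_apply, Matrix.diagonal_apply]
  by_cases hab' : a = b
  · rw [if_pos hab', if_pos (by rw [hab']), h]
  · rw [if_neg hab', if_neg (fun e => hab' (C.D.tau.injective e)), map_zero]

/-- the descent of `M⁻¹ A ψ(M)` to the small field -/
theorem glMap_cj_descent {A : GL (Fin N) K} (hA : C.ThG A = A) (ψ : K ≃+* K) :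
    Matrix.GeneralLinearGroup.map (C.cj : K →+* K)
        ((C.MMg hab hω)⁻¹ * A * Matrix.GeneralLinearGroup.map (ψ : K →+* K) (C.MMg hab hω))
      = (C.MMg hab hω)⁻¹ * A * Matrix.GeneralLinearGroup.map (ψ : K →+* K) (C.MMg hab hω) := by
  have hP := C.permGL_tau_sq
  have e1 : Matrix.GeneralLinearGroup.map (C.cj : K →+* K)
      (Matrix.GeneralLinearGroup.map (ψ : K →+* K) (C.MMg hab hω))
      = permGL C.D.tau * Matrix.GeneralLinearGroup.map (ψ : K →+* K) (C.MMg hab hω) := by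
    have e2 : Matrix.GeneralLinearGroup.map (C.cj : K →+* K)
        (Matrix.GeneralLinearGroup.map (ψ : K →+* K) (C.MMg hab hω))
        = Matrix.GeneralLinearGroup.map (ψ : K →+* K)
          (Matrix.GeneralLinearGroup.map (C.cj : K →+* K) (C.MMg hab hω)) := by
      apply Units.ext
      ext i j
      exact (C.cj_comm ψ _).symm
    rw [e2, C.glMap_cj_MMg hab hω, map_mul]
    congr 1
    apply Units.ext
    ext i j
    show ψ ((pm C.D.tau : Matrix (Fin N) (Fin N) K) i j) = (pm C.D.tau : Matrix (Fin N) (Fin N) K) i j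
    rw [pm_apply]
    split_ifs
    · rw [map_one]
    · rw [map_zero]
  rw [map_mul, map_mul, map_inv, C.glMap_cj_MMg hab hω, C.glMap_cj_of_fix hA, e1]
  calc (permGL C.D.tau * C.MMg hab hω)⁻¹ * (permGL C.D.tau * A * permGL C.D.tau)
        * (permGL C.D.tau * Matrix.GeneralLinearGroup.map (ψ : K →+* K) (C.MMg hab hω))
      = (C.MMg hab hω)⁻¹ * ((permGL C.D.tau)⁻¹ * permGL C.D.tau) * A
        * (permGL C.D.tau * permGL C.D.tau)
        * Matrix.GeneralLinearGroup.map (ψ : K →+* K) (C.MMg hab hω) := by group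
    _ = _ := by rw [hP, inv_mul_cancel, mul_one, mul_one]

/-- a field automorphism of `K` preserving `F` restricts to an automorphism of `F` -/
theorem exists_restrict [Finite F] (ψ : K ≃+* K) (h1 : ∀ a : F, ∃ b : F, ψ (C.ι a) = C.ι b) :
    ∃ σ : F ≃+* F, ∀ a, ψ (C.ι a) = C.ι (σ a) := by
  choose f hf using h1
  have hinj := C.ι.injective
  let σ₀ : F →+* F :=
    { toFun := f
      map_one' := hinj (by rw [← hf, map_one, map_one])
      map_mul' := fun x y => hinj (by rw [← hf, map_mul, map_mul, map_mul, hf, hf])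
      map_zero' := hinj (by rw [← hf, map_zero, map_zero])
      map_add' := fun x y => hinj (by rw [← hf, map_add, map_add, map_add, hf, hf]) }
  have hbij : Function.Bijective σ₀ :=
    Finite.injective_iff_bijective.1 σ₀.injective
  exact ⟨RingEquiv.ofBijective σ₀ hbij, fun a => hf a⟩

end MC

/-- the form of minus type commutes with the ring homomorphisms -/
theorem quadFormMinus_map (m : ℕ) (ι : F →+* K) (a b : F) (v : (Fin m ⊕ Fin m) ⊕ Fin 2 → F) :
    ι (quadFormMinus m F a b v) = quadFormMinus m K (ι a) (ι b) (fun x => ι (v x)) := by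
  rw [quadFormMinus_eq_qA, quadFormMinus_eq_qA, ← AMinus_map, qA_map]

namespace MC

variable (C : MC N F K) {a b : F} {ω : K}
  (hab : ∀ z₁ z₂ : F, z₁ ^ 2 + a * z₁ * z₂ + b * z₂ ^ 2 = 0 → z₁ = 0 ∧ z₂ = 0)
  (hω : ω ^ 2 + C.ι a * ω + C.ι b = 0)

/-- the form of minus type over `K` in the coordinates of the model -/
theorem qM_rx (h : GL ((Fin (C.κ + 1) ⊕ Fin (C.κ + 1)) ⊕ Fin 2) K)
    (w : (Fin (C.κ + 1) ⊕ Fin (C.κ + 1)) ⊕ Fin 2 → K) :
    quadFormMinus (C.κ + 1) K (C.ι a) (C.ι b) ((h : Matrix _ _ K) *ᵥ w)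
      = qM C.κ C.hN (C.ι a) (C.ι b)
          (((rxGL K (mEquiv C.κ C.hN) h : GL (Fin N) K) : Matrix (Fin N) (Fin N) K)
            *ᵥ (fun i => w ((mEquiv C.κ C.hN).symm i))) := by
  unfold qM
  rw [rxGL_mulVec]
  congr 2
  funext x
  rw [Equiv.symm_apply_apply]

/-- **from a twisted similitude of the model to a semisimilarity of the statements** -/
theorem semisim_of_twisted (A : GL (Fin N) K) (μ : Kˣ) (c : Fˣ) (hc : C.ι c = μ)
    (hAq : ∀ y : Fin N → K, qv ((A : Matrix (Fin N) (Fin N) K) *ᵥ y) = (μ : K) * qv y)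
    (ψ : K ≃+* K) (σ : F ≃+* F) (hσ : ∀ x, ψ (C.ι x) = C.ι (σ x))
    (g₀ : GL ((Fin (C.κ + 1) ⊕ Fin (C.κ + 1)) ⊕ Fin 2) F)
    (hg₀ : Matrix.GeneralLinearGroup.map C.ι (rxGL F (mEquiv C.κ C.hN) g₀)
      = (C.MMg hab hω)⁻¹ * A * Matrix.GeneralLinearGroup.map (ψ : K →+* K) (C.MMg hab hω)) :
    IsSemisimilarityPair (quadFormMinus (C.κ + 1) F a b) g₀ σ := by
  refine ⟨c, fun v => ?_⟩
  apply C.ι.injective
  rw [quadFormMinus_map, map_mul, hc, ← hσ, quadFormMinus_map]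
  have e1 : (fun x => C.ι (((g₀ : Matrix _ _ F) *ᵥ fun i => σ (v i)) x))
      = ((Matrix.GeneralLinearGroup.map C.ι g₀
          : GL ((Fin (C.κ + 1) ⊕ Fin (C.κ + 1)) ⊕ Fin 2) K)
          : Matrix ((Fin (C.κ + 1) ⊕ Fin (C.κ + 1)) ⊕ Fin 2)
            ((Fin (C.κ + 1) ⊕ Fin (C.κ + 1)) ⊕ Fin 2) K)
        *ᵥ (fun x => C.ι (σ (v x))) := by
    funext x
    exact RingHom.map_mulVec C.ι (g₀ : Matrix _ _ F) (fun i => σ (v i)) x
  rw [e1, C.qM_rx, rxGL_map, hg₀, ← C.qv_MMg hab hω, ← glmv_mul]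
  have e2 : C.MMg hab hω * ((C.MMg hab hω)⁻¹ * A
      * Matrix.GeneralLinearGroup.map (ψ : K →+* K) (C.MMg hab hω))
      = A * Matrix.GeneralLinearGroup.map (ψ : K →+* K) (C.MMg hab hω) := by group
  rw [e2, glmv_mul, hAq]
  congr 1
  have e3 : (fun i => (fun x => C.ι (σ (v x))) ((mEquiv C.κ C.hN).symm i))
      = fun i => ψ ((fun i => C.ι (v ((mEquiv C.κ C.hN).symm i))) i) := by
    funext i
    exact (hσ _).symm
  have e4 : ((Matrix.GeneralLinearGroup.map (ψ : K →+* K) (C.MMg hab hω) : GL (Fin N) K)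
      : Matrix (Fin N) (Fin N) K) *ᵥ (fun i => ψ ((fun i => C.ι (v ((mEquiv C.κ C.hN).symm i))) i))
      = fun i => ψ ((((C.MMg hab hω : GL (Fin N) K) : Matrix (Fin N) (Fin N) K)
          *ᵥ (fun i => C.ι (v ((mEquiv C.κ C.hN).symm i)))) i) := by
    funext i
    exact (RingHom.map_mulVec (ψ : K →+* K) ((C.MMg hab hω : GL (Fin N) K)
      : Matrix (Fin N) (Fin N) K) (fun i => C.ι (v ((mEquiv C.κ C.hN).symm i))) i).symm
  rw [e3, e4, qv_map ψ, C.qv_MMg hab hω]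
  congr 1
  unfold qM
  congr 1
  funext x
  show C.ι (v ((mEquiv C.κ C.hN).symm (mEquiv C.κ C.hN x))) = C.ι (v x)
  rw [Equiv.symm_apply_apply]

/-- the induced action of the semisimilarity on the model -/
theorem EE_conj (A : GL (Fin N) K) (ψ : K ≃+* K) (σ : F ≃+* F)
    (hσ : ∀ x, ψ (C.ι x) = C.ι (σ x))
    (g₀ : GL ((Fin (C.κ + 1) ⊕ Fin (C.κ + 1)) ⊕ Fin 2) F)
    (hg₀ : Matrix.GeneralLinearGroup.map C.ι (rxGL F (mEquiv C.κ C.hN) g₀)
      = (C.MMg hab hω)⁻¹ * A * Matrix.GeneralLinearGroup.map (ψ : K →+* K) (C.MMg hab hω))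
    (s : GL ((Fin (C.κ + 1) ⊕ Fin (C.κ + 1)) ⊕ Fin 2) F) :
    C.EE hab hω (g₀ * Matrix.GeneralLinearGroup.map (σ : F →+* F) s * g₀⁻¹)
      = A * Matrix.GeneralLinearGroup.map (ψ : K →+* K) (C.EE hab hω s) * A⁻¹ := by
  have e1 : Matrix.GeneralLinearGroup.map C.ι (rxGL F (mEquiv C.κ C.hN)
      (Matrix.GeneralLinearGroup.map (σ : F →+* F) s))
      = Matrix.GeneralLinearGroup.map (ψ : K →+* K)
        (Matrix.GeneralLinearGroup.map C.ι (rxGL F (mEquiv C.κ C.hN) s)) := by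
    apply Units.ext
    ext i j
    exact (hσ _).symm
  rw [map_mul, map_mul, map_inv, EE_apply, EE_apply, EE_apply, hg₀, e1, map_mul, map_mul, map_inv]
  group

variable (hW : ∀ π : Equiv.Perm (Fin N), revC π = π → C.D.tau * π * C.D.tau = π →
      ∃ n ∈ C.G0, IsMono ((gl n : GL (Fin N) K) : Matrix (Fin N) (Fin N) K) π ∨
        IsMono ((gl n : GL (Fin N) K) : Matrix (Fin N) (Fin N) K) (π * C.D.tau))
  (hperf : commutator ↥C.G0 = ⊤)
  (hZ : ∀ g : ↥C.G0, g ∈ Subgroup.center ↥C.G0 → ∃ c : K,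
    ((gl g.1 : GL (Fin N) K) : Matrix (Fin N) (Fin N) K) = Matrix.diagonal fun _ => c)

set_option maxHeartbeats 2000000 in
/-- **Every automorphism of `PΩ⁻_{2κ+4}(F)` is induced by a semisimilarity**, given the lifts of the
Weyl group, the perfectness and the centre of the model, and the normal form of the automorphisms. -/
theorem facM [Finite F] (hκ : 1 ≤ C.κ)
    (hNF : ∀ θ : POmega F (quadFormMinus (C.κ + 1) F a b) ≃* POmega F (quadFormMinus (C.κ + 1) F a b),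
      ∃ x : POmega F (quadFormMinus (C.κ + 1) F a b),
        (∀ i (hi : i < (C.ctx hab hω hW hperf hZ).κ) u, ∃ v,
          (θ.trans (MulAut.conj x⁻¹)) ((C.ctx hab hω hW hperf hZ).f
            ((C.ctx hab hω hW hperf hZ).sN i hi (upT u)))
          = (C.ctx hab hω hW hperf hZ).f ((C.ctx hab hω hW hperf hZ).sN i hi (upT v))) ∧
        (∀ i (hi : i < (C.ctx hab hω hW hperf hZ).κ) u, ∃ v,
          (θ.trans (MulAut.conj x⁻¹)) ((C.ctx hab hω hW hperf hZ).f
            ((C.ctx hab hω hW hperf hZ).sN i hi (loT u)))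
          = (C.ctx hab hω hW hperf hZ).f ((C.ctx hab hω hW hperf hZ).sN i hi (loT v))) ∧
        (∀ u, ∃ v,
          (θ.trans (MulAut.conj x⁻¹)) ((C.ctx hab hω hW hperf hZ).f
            ((C.ctx hab hω hW hperf hZ).tN (upT u)))
          = (C.ctx hab hω hW hperf hZ).f ((C.ctx hab hω hW hperf hZ).tN (upT v))) ∧
        (∀ u, ∃ v,
          (θ.trans (MulAut.conj x⁻¹)) ((C.ctx hab hω hW hperf hZ).f
            ((C.ctx hab hω hW hperf hZ).tN (loT u)))
          = (C.ctx hab hω hW hperf hZ).f ((C.ctx hab hω hW hperf hZ).tN (loT v))))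
    (β : MulAut (POmega F (quadFormMinus (C.κ + 1) F a b))) :
    ∃ (g : GL ((Fin (C.κ + 1) ⊕ Fin (C.κ + 1)) ⊕ Fin 2) F) (σ : F ≃+* F),
      IsSemisimilarityPair (quadFormMinus (C.κ + 1) F a b) g σ ∧
      IsInducedBySemilinearPOmega (quadFormMinus (C.κ + 1) F a b) g σ β := by
  classical
  obtain ⟨x, hx1, hx2, hx3, hx4⟩ := hNF β
  have hPhi := C.ctx_PhiSInv hab hω hW hperf hZ
  obtain ⟨ψ, d, μ, hd, hc, hth⟩ := (C.ctx hab hω hW hperf hZ).model_aut hκ hPhi
    (β.trans (MulAut.conj x⁻¹)) hx1 hx2 hx3 hx4 (C.ctx_gen hab hω hW hperf hZ)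
  obtain ⟨h1, h2, h3⟩ := hc
  obtain ⟨hμ, hcjd⟩ := C.compat_cj d μ hd h2 h3
  obtain ⟨σ, hσ⟩ := C.exists_restrict ψ h1
  obtain ⟨x₀, hx₀⟩ := (C.ctx hab hω hW hperf hZ).hf x
  -- the twisted similitude
  have hA : C.ThG (gl x₀.1 * Cfsg.Agent.Lib.Helper8.AutSp.dgU d)
      = gl x₀.1 * Cfsg.Agent.Lib.Helper8.AutSp.dgU d := by
    rw [map_mul, (C.mem_GM.1 (C.gl_mem_GM x₀.2)).2, C.ThG_dgU d hcjd]
  have hAq : ∀ y : Fin N → K,
      qv (((gl x₀.1 * Cfsg.Agent.Lib.Helper8.AutSp.dgU d : GL (Fin N) K)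
        : Matrix (Fin N) (Fin N) K) *ᵥ y) = (μ : K) * qv y := by
    intro y
    rw [glmv_mul, qv_of_mem_OQ C.even (C.mem_GM.1 (C.gl_mem_GM x₀.2)).1,
      qv_dgU d μ (fun i => hd i)]
  obtain ⟨c₀, hc₀⟩ := C.hfix μ hμ
  have hc₀ne : c₀ ≠ 0 := by
    intro e
    rw [e, map_zero] at hc₀
    exact μ.ne_zero hc₀.symm
  obtain ⟨B₀, hB₀⟩ := C.exists_glMap (C.glMap_cj_descent hab hω hA ψ)
  have hg₀ : Matrix.GeneralLinearGroup.map C.ι
      (rxGL F (mEquiv C.κ C.hN) ((rxGL F (mEquiv C.κ C.hN)).symm B₀))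
      = (C.MMg hab hω)⁻¹ * (gl x₀.1 * Cfsg.Agent.Lib.Helper8.AutSp.dgU d)
        * Matrix.GeneralLinearGroup.map (ψ : K →+* K) (C.MMg hab hω) := by
    rw [MulEquiv.apply_symm_apply]
    exact hB₀
  refine ⟨(rxGL F (mEquiv C.κ C.hN)).symm B₀, σ,
    C.semisim_of_twisted hab hω _ μ (Units.mk0 c₀ hc₀ne) hc₀ hAq ψ σ hσ _ hg₀, ?_⟩
  intro s s' hs
  -- the element of the model over `s`
  have e1 : C.fM hab hω hW hperf ((C.eG0 hab hω hW hperf).symm s) = QuotientGroup.mk s := by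
    rw [fM_apply, MulEquiv.apply_symm_apply]
  have hβ := hth ((C.eG0 hab hω hW hperf).symm s)
  have h6 : (C.ctx hab hω hW hperf hZ).f ((C.eG0 hab hω hW hperf).symm s)
      = QuotientGroup.mk s := e1
  rw [h6] at hβ
  have h5 : (β.trans (MulAut.conj x⁻¹)) (QuotientGroup.mk s)
      = x⁻¹ * β (QuotientGroup.mk s) * x := by
    show (MulAut.conj x⁻¹) (β (QuotientGroup.mk s)) = _
    rw [MulAut.conj_apply, inv_inv]
  rw [h5] at hβ
  have hβ' : β (QuotientGroup.mk s)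
      = (C.ctx hab hω hW hperf hZ).f (x₀ * (C.ctx hab hω hW hperf hZ).PhiSR hPhi ψ d μ hd
          ⟨h1, h2, h3⟩ ((C.eG0 hab hω hW hperf).symm s) * x₀⁻¹) := by
    rw [MonoidHom.map_mul, MonoidHom.map_mul, MonoidHom.map_inv, hx₀, ← hβ]
    group
  rw [hβ']
  show QuotientGroup.mk (C.eG0 hab hω hW hperf _) = _
  congr 1
  -- compare in `GL_N(K)`
  apply Subtype.ext
  apply Subtype.ext
  apply C.EE_injective hab hω
  refine (C.eG0_spec hab hω hW hperf _).trans ?_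
  have hs' : (((s' : ↥(isometryGroup F (quadFormMinus (C.κ + 1) F a b))) : GL _ F))
      = (rxGL F (mEquiv C.κ C.hN)).symm B₀
        * Matrix.GeneralLinearGroup.map (σ : F →+* F)
          ((s : ↥(isometryGroup F (quadFormMinus (C.κ + 1) F a b))) : GL _ F)
        * ((rxGL F (mEquiv C.κ C.hN)).symm B₀)⁻¹ := by
    apply Units.ext
    rw [hs]
    rfl
  rw [hs', C.EE_conj hab hω _ ψ σ hσ _ hg₀]
  have e2 : C.EE hab hω ((s : ↥(isometryGroup F (quadFormMinus (C.κ + 1) F a b))) : GL _ F)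
      = gl ((C.eG0 hab hω hW hperf).symm s).1 := by
    rw [← C.eG0_spec hab hω hW hperf, MulEquiv.apply_symm_apply]
  rw [e2]
  have h8 : gl (((C.ctx hab hω hW hperf hZ).PhiSR hPhi ψ d μ hd ⟨h1, h2, h3⟩
      ((C.eG0 hab hω hW hperf).symm s)).1)
      = Cfsg.Agent.Lib.Helper8.AutSp.dgU d
        * Matrix.GeneralLinearGroup.map (ψ : K →+* K) (gl ((C.eG0 hab hω hW hperf).symm s).1)
        * (Cfsg.Agent.Lib.Helper8.AutSp.dgU d)⁻¹ :=
    Cfsg.Agent.AutPO.gl_PhiS ψ (idComm ψ) d μ hd ((C.eG0 hab hω hW hperf).symm s).1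
  have h9 : gl (x₀ * (C.ctx hab hω hW hperf hZ).PhiSR hPhi ψ d μ hd ⟨h1, h2, h3⟩
      ((C.eG0 hab hω hW hperf).symm s) * x₀⁻¹).1
      = gl x₀.1 * gl (((C.ctx hab hω hW hperf hZ).PhiSR hPhi ψ d μ hd ⟨h1, h2, h3⟩
        ((C.eG0 hab hω hW hperf).symm s)).1) * (gl x₀.1)⁻¹ := by
    show gl (x₀.1 * _ * x₀.1⁻¹) = _
    rw [gl_mul, gl_mul, gl_inv]
  refine h9.trans ?_
  rw [h8]
  group

end MC

end Cfsg.Agent.AutPM
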