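import Mathlib

/-!
# Quadratic forms given by matrices: isometries are stable under base change (lead)

`qA A v = Σ A i j v i v j`.  A matrix `g` preserves `qA A` if and only if `gᵀ A g - A` is alternating,
a condition stable under ring homomorphisms (`qA_isometry_map`), and reflected by the injective ones
(`qA_isometry_of_map`).  Every characteristic.
-/

set_option autoImplicit false

namespace Cfsg.Agent.AutPM

open Matrix

set_option linter.unusedSectionVars false

variable {n : Type*} [Fintype n] [DecidableEq n] {R S : Type*} [CommRing R] [CommRing S]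

/-- the quadratic form of a matrix -/
def qA (A : Matrix n n R) (v : n → R) : R := ∑ i, ∑ j, A i j * v i * v j

theorem qA_eq_dot (A : Matrix n n R) (v : n → R) : qA A v = v ⬝ᵥ (A *ᵥ v) := by
  unfold qA dotProduct mulVec dotProduct
  apply Finset.sum_congr rfl
  intro i _
  rw [Finset.mul_sum]
  apply Finset.sum_congr rfl
  intro j _
  ring

theorem qA_mulVec (A g : Matrix n n R) (v : n → R) : qA A (g *ᵥ v) = qA (gᵀ * A * g) v := by
  rw [qA_eq_dot, qA_eq_dot, ← Matrix.mulVec_mulVec, ← Matrix.mulVec_mulVec,
    Matrix.dotProduct_mulVec v gᵀ, Matrix.vecMul_transpose]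

theorem qA_sub (A B : Matrix n n R) (v : n → R) : qA (A - B) v = qA A v - qA B v := by
  unfold qA
  rw [← Finset.sum_sub_distrib]
  apply Finset.sum_congr rfl
  intro i _
  rw [← Finset.sum_sub_distrib]
  apply Finset.sum_congr rfl
  intro j _
  rw [Matrix.sub_apply]
  ring

/-- alternating matrices -/
def IsAlt (A : Matrix n n R) : Prop := (∀ i, A i i = 0) ∧ ∀ i j, A i j + A j i = 0

theorem qA_alt {A : Matrix n n R} (hA : IsAlt A) (v : n → R) : qA A v = 0 := by
  unfold qA
  rw [← Finset.sum_product' (f := fun i j => A i j * v i * v j)]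
  apply Finset.sum_involution (fun x _ => Prod.swap x)
  · rintro ⟨i, j⟩ _
    show A i j * v i * v j + A j i * v j * v i = 0
    have := hA.2 i j
    linear_combination (v i * v j) * this
  · rintro ⟨i, j⟩ _ h1 h2
    have e : i = j := by
      have := congrArg Prod.fst h2
      exact this.symm
    apply h1
    show A i j * v i * v j = 0
    rw [e, hA.1, zero_mul, zero_mul]
  · intro x _
    exact Finset.mem_univ _
  · intro x _
    exact Prod.swap_swap x

theorem isAlt_of_qA {A : Matrix n n R} (h : ∀ v, qA A v = 0) : IsAlt A := by
  have h1 : ∀ i, A i i = 0 := by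
    intro i
    have := h (Pi.single i 1)
    unfold qA at this
    rw [Finset.sum_eq_single i, Finset.sum_eq_single i] at this
    · simpa using this
    · intro b _ hb
      rw [Pi.single_eq_of_ne hb, mul_zero]
    · intro hh
      exact absurd (Finset.mem_univ _) hh
    · intro b _ hb
      apply Finset.sum_eq_zero
      intro j _
      rw [Pi.single_eq_of_ne hb, mul_zero, zero_mul]
    · intro hh
      exact absurd (Finset.mem_univ _) hh
  refine ⟨h1, fun i j => ?_⟩
  by_cases hij : i = j
  · rw [hij, h1, add_zero]
  have := h (Pi.single i (1 : R) + Pi.single j (1 : R) : n → R)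
  unfold qA at this
  have e : ∀ a b : n, A a b * ((Pi.single i (1 : R) + Pi.single j (1 : R) : n → R) a)
      * ((Pi.single i (1 : R) + Pi.single j (1 : R) : n → R) b)
      = (if a = i then (if b = i then A i i else 0) + (if b = j then A i j else 0) else 0)
        + (if a = j then (if b = i then A j i else 0) + (if b = j then A j j else 0) else 0) := by
    intro a b
    simp only [Pi.add_apply, Pi.single_apply]
    by_cases ha : a = i
    · have ha' : a ≠ j := fun e => hij (ha.symm.trans e)
      rw [if_pos ha, if_neg ha', if_pos ha, if_neg ha']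
      by_cases hb : b = i
      · have hb' : b ≠ j := fun e => hij (hb.symm.trans e)
        rw [if_pos hb, if_neg hb', if_pos hb, if_neg hb', ha, hb]
        ring
      · by_cases hb' : b = j
        · rw [if_neg hb, if_pos hb', if_neg hb, if_pos hb', ha, hb']
          ring
        · rw [if_neg hb, if_neg hb', if_neg hb, if_neg hb']
          ring
    · by_cases ha' : a = j
      · rw [if_neg ha, if_pos ha', if_neg ha, if_pos ha']
        by_cases hb : b = i
        · have hb' : b ≠ j := fun e => hij (hb.symm.trans e)
          rw [if_pos hb, if_neg hb', if_pos hb, if_neg hb', ha', hb]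
          ring
        · by_cases hb' : b = j
          · rw [if_neg hb, if_pos hb', if_neg hb, if_pos hb', ha', hb']
            ring
          · rw [if_neg hb, if_neg hb', if_neg hb, if_neg hb']
            ring
      · rw [if_neg ha, if_neg ha', if_neg ha, if_neg ha']
        ring
  simp_rw [e] at this
  simp only [Finset.sum_add_distrib, Finset.sum_ite_eq', Finset.mem_univ, if_true,
    Finset.sum_ite_irrel, Finset.sum_const_zero] at this
  rw [h1, h1] at this
  linear_combination this

theorem qA_map (f : R →+* S) (A : Matrix n n R) (v : n → R) :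
    qA (A.map f) (fun i => f (v i)) = f (qA A v) := by
  unfold qA
  rw [map_sum]
  apply Finset.sum_congr rfl
  intro i _
  rw [map_sum]
  apply Finset.sum_congr rfl
  intro j _
  rw [Matrix.map_apply, map_mul, map_mul]

theorem isAlt_map (f : R →+* S) {A : Matrix n n R} (hA : IsAlt A) : IsAlt (A.map f) := by
  refine ⟨fun i => ?_, fun i j => ?_⟩
  · rw [Matrix.map_apply, hA.1, map_zero]
  · rw [Matrix.map_apply, Matrix.map_apply, ← map_add, hA.2, map_zero]

/-- isometries are stable under base change -/
theorem qA_isometry_map (f : R →+* S) {A g : Matrix n n R}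
    (h : ∀ v, qA A (g *ᵥ v) = qA A v) (w : n → S) :
    qA (A.map f) (g.map f *ᵥ w) = qA (A.map f) w := by
  have hS : IsAlt (gᵀ * A * g - A) :=
    isAlt_of_qA (fun v => by rw [qA_sub, ← qA_mulVec, h, sub_self])
  have := qA_alt (isAlt_map f hS) w
  rw [Matrix.map_sub, Matrix.map_mul, Matrix.map_mul, Matrix.transpose_map, qA_sub,
    ← qA_mulVec] at this
  · exact sub_eq_zero.1 this
  · exact map_sub f

/-- isometries are reflected by injective base changes -/
theorem qA_isometry_of_map (f : R →+* S) (hf : Function.Injective f) {A g : Matrix n n R}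
    (h : ∀ w : n → S, qA (A.map f) (g.map f *ᵥ w) = qA (A.map f) w) (v : n → R) :
    qA A (g *ᵥ v) = qA A v := by
  apply hf
  rw [← qA_map, ← qA_map, ← h (fun i => f (v i))]
  congr 1
  funext i
  have := RingHom.map_mulVec f g v i
  rw [this]
  rfl

end Cfsg.Agent.AutPM
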