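import Cfsg.Agent.Lib.Lead.AutPM.Theta
import Mathlib

/-!
# `Ω⁻_{2κ+4}(F)`: the root elements (lead)

The special orthogonal group of minus type `SM = ThFix ⊓ OD`; the long root elements `xQ q (ι t)`
(at positions avoiding the two middle coordinates) and the short root elements `tw a s`
(`s ∈ K`, at the positions `(a, p1)`, `(a, p1')`, `(a, a')` and their mirrors) lie in `SM`.
-/

set_option autoImplicit false

namespace Cfsg.Agent.AutPM

open Matrix Cfsg Cfsg.Agent.Lib.Helper5.GLBN Cfsg.Agent.Lib.Helper8.SpBN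
open Cfsg.Agent.Lib.Helper8.Tw Cfsg.Agent.PSUT Cfsg.Agent.Lib.Helper5.AutSU
open Cfsg.Agent.Lib.Helper5.AutDO
open Cfsg.Agent.AutPSU (upT loT dgT moT Quad)
open Cfsg.Agent.AutPO (sO fO tO)
open scoped MatrixGroups

variable {N : ℕ} {F K : Type*} [Field F] [Field K]

/-- in even dimension no coordinate is its own mirror -/
theorem ne_rev (hE : Even N) (x : Fin N) : x ≠ x.rev := Cfsg.Agent.RootBN.rev_ne_of_even hE x

/-- the four positions of a short root of type `D` -/
theorem quadOf (hE : Even N) {a b : Fin N} (hab : a ≠ b) (hab' : a ≠ b.rev) : Quad a b where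
  ne := hab
  h01 := hab'
  h00 := ne_rev hE a
  h11 := ne_rev hE b

/-- the root element `1 + c E_{ab} - c E_{b'a'}` of the special orthogonal group -/
def xQ {a b : Fin N} (q : Quad a b) (c : K) : SUm N K (RingHom.id K) :=
  mk1 (xS (RingHom.id K) a b q.ne c) (xS_mem_UH idinv a b q.ne q.h01 q.h00 q.h11 c)
    (det_xS (RingHom.id K) a b q.ne c)

theorem gl_xQ {a b : Fin N} (q : Quad a b) (c : K) :
    gl (xQ q c) = xS (RingHom.id K) a b q.ne c := rfl

theorem xQ_apply {a b : Fin N} (q : Quad a b) (c : K) (i j : Fin N) :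
    ((gl (xQ q c) : GL (Fin N) K) : Matrix (Fin N) (Fin N) K) i j
      = (if i = j then 1 else 0) + (if a = i ∧ b = j then c else 0)
        + if b.rev = i ∧ a.rev = j then -c else 0 := by
  rw [gl_xQ, xS_apply _ _ _ _ q.h11]
  rfl

theorem xQ_zero {a b : Fin N} (q : Quad a b) : xQ q (0 : K) = 1 := by
  apply gl_injective
  apply Units.ext
  ext i j
  rw [xQ_apply, gl_one, Units.val_one, Matrix.one_apply]
  simp

theorem xQ_congr {a b a' b' : Fin N} (q : Quad a b) (q' : Quad a' b') (ha : a = a') (hb : b = b')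
    {c c' : K} (hc : c = c') : xQ q c = xQ q' c' := by
  subst ha hb hc
  rfl

theorem xQ_mem_Sh [Fintype K] {a b : Fin N} (q : Quad a b) (c : K) :
    xQ q c ∈ Sh N K (RingHom.id K) (PS a b) :=
  xS_mem_Sh idinv a b q.ne q.h01 q.h00 q.h11 c

section fin

variable [Finite K]

theorem xQ_mem_OD {a b : Fin N} (q : Quad a b) (c : K) : xQ q c ∈ OD N K := by
  rw [mem_OD, gl_xQ]
  exact isQ_xS a b q.ne q.h00 q.h11 c

end fin

namespace MC

variable (C : MC N F K)

/-- the image of four positions under the swap of the two middle coordinates -/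
theorem quad_tau {a b : Fin N} (q : Quad a b) : Quad (C.D.tau a) (C.D.tau b) where
  ne := fun h => q.ne (C.D.tau.injective h)
  h01 := fun h => q.h01 (C.D.tau.injective (by rw [h, DC.tau_rev]))
  h00 := fun h => q.h00 (C.D.tau.injective (by rw [h, DC.tau_rev]))
  h11 := fun h => q.h11 (C.D.tau.injective (by rw [h, DC.tau_rev]))

/-- the twisting automorphism on the root elements -/
theorem Th_xQ {a b : Fin N} (q : Quad a b) (c : K) :
    C.Th (xQ q c) = xQ (C.quad_tau q) (C.cj c) := by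
  apply gl_injective
  apply Units.ext
  ext i j
  rw [Th_apply, xQ_apply, xQ_apply]
  have e1 : (C.D.tau i = C.D.tau j) ↔ (i = j) := C.D.tau.injective.eq_iff
  have e2 : (a = C.D.tau i ∧ b = C.D.tau j) ↔ (C.D.tau a = i ∧ C.D.tau b = j) := by
    constructor
    · rintro ⟨rfl, rfl⟩
      exact ⟨C.D.tau_tau _, C.D.tau_tau _⟩
    · rintro ⟨rfl, rfl⟩
      exact ⟨(C.D.tau_tau _).symm, (C.D.tau_tau _).symm⟩
  have e3 : (b.rev = C.D.tau i ∧ a.rev = C.D.tau j)
      ↔ ((C.D.tau b).rev = i ∧ (C.D.tau a).rev = j) := by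
    rw [← DC.tau_rev, ← DC.tau_rev]
    constructor
    · rintro ⟨h1, h2⟩
      rw [h1, h2]
      exact ⟨C.D.tau_tau _, C.D.tau_tau _⟩
    · rintro ⟨rfl, rfl⟩
      exact ⟨(C.D.tau_tau _).symm, (C.D.tau_tau _).symm⟩
  simp only [e1, e2, e3]
  split_ifs <;> simp

/-- a coordinate which is not one of the two middle ones -/
def NM (a : Fin N) : Prop := C.D.tau a = a

theorem NM_rev {a : Fin N} (ha : C.NM a) : C.NM a.rev := by
  unfold NM
  rw [DC.tau_rev, ha]

theorem NM_ne_p1 {a : Fin N} (ha : C.NM a) : a ≠ C.D.p1 := by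
  rintro rfl
  have h : C.D.tau C.D.p1 = C.D.p1 := ha
  unfold DC.tau at h
  rw [Equiv.swap_apply_left] at h
  exact C.D.p1_ne h.symm

theorem NM_ne_p1_rev {a : Fin N} (ha : C.NM a) : a ≠ C.D.p1.rev := by
  rintro rfl
  have h : C.D.tau C.D.p1.rev = C.D.p1.rev := ha
  unfold DC.tau at h
  rw [Equiv.swap_apply_right] at h
  exact C.D.p1_ne h

theorem NM_of_ne {a : Fin N} (h1 : a ≠ C.D.p1) (h2 : a ≠ C.D.p1.rev) : C.NM a :=
  Equiv.swap_apply_of_ne_of_ne h1 h2

theorem NM_of_val {a : Fin N} (h1 : (a : ℕ) ≠ C.κ + 1) (h2 : (a : ℕ) ≠ C.κ + 2) : C.NM a :=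
  C.D.tau_fix a h1 h2

theorem NM_val {a : Fin N} (ha : C.NM a) : (a : ℕ) ≠ C.κ + 1 ∧ (a : ℕ) ≠ C.κ + 2 := by
  constructor
  · intro h
    exact C.NM_ne_p1 ha (Fin.ext h)
  · intro h
    apply C.NM_ne_p1_rev ha
    apply Fin.ext
    rw [C.D.p1_rev_val]
    exact h

/-- the long root elements over the small field are fixed by the twisting automorphism -/
theorem Th_xQ_long {a b : Fin N} (q : Quad a b) (ha : C.NM a) (hb : C.NM b) (t : F) :
    C.Th (xQ q (C.ι t)) = xQ q (C.ι t) := by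
  rw [Th_xQ]
  exact xQ_congr _ _ ha hb (C.hι t)

/-- the four positions of a coordinate and the first middle coordinate -/
theorem quad1 {a : Fin N} (ha : C.NM a) : Quad a C.D.p1 :=
  quadOf C.even (C.NM_ne_p1 ha) (C.NM_ne_p1_rev ha)

/-- the four positions of a coordinate and the second middle coordinate -/
theorem quad2 {a : Fin N} (ha : C.NM a) : Quad a C.D.p1.rev :=
  quadOf C.even (C.NM_ne_p1_rev ha) (by rw [Fin.rev_rev]; exact C.NM_ne_p1 ha)

/-- the short root elements of the twisted group -/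
def tw {a : Fin N} (ha : C.NM a) (s : K) : SUm N K (RingHom.id K) :=
  xQ (C.quad1 ha) s * xQ (C.quad2 ha) (C.cj s)

theorem tau_p1 : C.D.tau C.D.p1 = C.D.p1.rev := Equiv.swap_apply_left _ _

theorem tau_p1_rev : C.D.tau C.D.p1.rev = C.D.p1 := Equiv.swap_apply_right _ _

/-- the two factors of a short root element commute -/
theorem xQ_comm {a : Fin N} (ha : C.NM a) (s u : K) :
    xQ (C.quad1 ha) s * xQ (C.quad2 ha) u = xQ (C.quad2 ha) u * xQ (C.quad1 ha) s := by
  apply gl_injective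
  rw [gl_mul, gl_mul, gl_xQ, gl_xQ]
  have q1 := C.quad1 ha
  have q2 := C.quad2 ha
  have h := Cfsg.Agent.AutPO.comm4_UU a C.D.p1 C.D.p1.rev a.rev q1.ne q2.ne q1.h00 C.D.p1_ne
    (fun h => q2.ne (by rw [h, Fin.rev_rev]))
    (fun h => q1.ne (Fin.rev_injective h).symm) s u
  unfold xS
  simp only [RingHom.id_apply]
  convert h using 3
  · exact tv_congr3 (Fin.rev_rev _) rfl _ _ rfl
  · exact tv_congr3 (Fin.rev_rev _) rfl _ _ rfl

theorem Th_tw {a : Fin N} (ha : C.NM a) (s : K) : C.Th (C.tw ha s) = C.tw ha s := by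
  have e1 : C.Th (C.tw ha s) = xQ (C.quad_tau (C.quad1 ha)) (C.cj s)
      * xQ (C.quad_tau (C.quad2 ha)) (C.cj (C.cj s)) := by
    unfold tw
    rw [map_mul, Th_xQ, Th_xQ]
  rw [e1, xQ_congr (C.quad_tau (C.quad1 ha)) (C.quad2 ha) ha C.tau_p1 rfl,
    xQ_congr (C.quad_tau (C.quad2 ha)) (C.quad1 ha) ha C.tau_p1_rev (C.hcj s)]
  exact (C.xQ_comm ha s (C.cj s)).symm

section fin

variable [Finite K]

/-- the special orthogonal group of minus type -/
noncomputable def SM : Subgroup (SUm N K (RingHom.id K)) := C.ThFix ⊓ OD N K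

theorem mem_SM {g : SUm N K (RingHom.id K)} : g ∈ C.SM ↔ g ∈ C.ThFix ∧ g ∈ OD N K := Iff.rfl

theorem G0_le_SM : C.G0 ≤ C.SM := le_inf C.G0_le_ThFix C.G0_le_OD

theorem xQ_long_mem_SM {a b : Fin N} (q : Quad a b) (ha : C.NM a) (hb : C.NM b) (t : F) :
    xQ q (C.ι t) ∈ C.SM :=
  ⟨C.Th_xQ_long q ha hb t, xQ_mem_OD q _⟩

theorem tw_mem_SM {a : Fin N} (ha : C.NM a) (s : K) : C.tw ha s ∈ C.SM :=
  ⟨C.Th_tw ha s, mul_mem (xQ_mem_OD _ _) (xQ_mem_OD _ _)⟩

end fin


/-- right multiplication by a short root element of the twisted group -/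
theorem mul_tw_apply (M : Matrix (Fin N) (Fin N) K) {a : Fin N} (ha : C.NM a) (s : K)
    (i k : Fin N) :
    (M * ((gl (C.tw ha s) : GL (Fin N) K) : Matrix (Fin N) (Fin N) K)) i k
      = M i k + (if k = C.D.p1 then M i a * s else 0)
        + (if k = C.D.p1.rev then M i a * C.cj s else 0)
        + (if k = a.rev then -(M i C.D.p1.rev * s) - M i C.D.p1 * C.cj s - M i a * (s * C.cj s)
            else 0) := by
  have q1 := C.quad1 ha
  have q2 := C.quad2 ha
  unfold tw
  rw [gl_mul, Units.val_mul, gl_xQ, gl_xQ, ← Matrix.mul_assoc,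
    mul_xS_apply _ _ _ _ _ q2.h11, mul_xS_apply _ _ _ _ _ q1.h11,
    mul_xS_apply _ _ _ _ _ q1.h11, mul_xS_apply _ _ _ _ _ q1.h11, Fin.rev_rev]
  simp only [RingHom.id_apply]
  have n1 : a ≠ C.D.p1 := q1.ne
  have n2 : a ≠ C.D.p1.rev := q2.ne
  have n3 : a ≠ a.rev := q1.h00
  have n4 : C.D.p1 ≠ a.rev := fun h => n2 (by rw [h, Fin.rev_rev])
  have n5 : C.D.p1.rev ≠ a.rev := fun h => n1 (Fin.rev_injective h).symm
  have n6 := C.D.p1_ne
  by_cases h1 : k = C.D.p1
  · subst h1
    simp [n4, n6]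
  · by_cases h2 : k = C.D.p1.rev
    · subst h2
      simp [n1, n5, n6.symm, n3]
    · by_cases h3 : k = a.rev
      · subst h3
        simp [n4, n4.symm, n5.symm, n3.symm]
        ring
      · simp [h1, h2, h3]

/-- the entries of a short root element of the twisted group -/
theorem tw_apply {a : Fin N} (ha : C.NM a) (s : K) (i k : Fin N) :
    ((gl (C.tw ha s) : GL (Fin N) K) : Matrix (Fin N) (Fin N) K) i k
      = (if i = k then 1 else 0) + (if k = C.D.p1 ∧ i = a then s else 0)
        + (if k = C.D.p1.rev ∧ i = a then C.cj s else 0)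
        + (if k = a.rev then
            -((if i = C.D.p1.rev then s else 0)) - (if i = C.D.p1 then C.cj s else 0)
              - (if i = a then s * C.cj s else 0)
            else 0) := by
  have h := C.mul_tw_apply 1 ha s i k
  rw [Matrix.one_mul] at h
  rw [h]
  simp only [Matrix.one_apply]
  have n6 := C.D.p1_ne
  by_cases h1 : k = C.D.p1
  · simp only [h1, true_and, ite_mul, one_mul, zero_mul, if_true, n6, false_and, if_false]
  · by_cases h2 : k = C.D.p1.rev
    · simp only [h2, true_and, ite_mul, one_mul, zero_mul, if_true, n6.symm, false_and, if_false]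
    · simp only [h1, h2, false_and, ite_mul, one_mul, zero_mul, if_false]

/-- the positions of a short root of the twisted group -/
def PT (a : Fin N) : Fin N → Fin N → Prop :=
  fun i k => (i = a ∧ (k = C.D.p1 ∨ k = C.D.p1.rev ∨ k = a.rev)) ∨
    (k = a.rev ∧ (i = C.D.p1 ∨ i = C.D.p1.rev))

theorem tw_mem_Sh {a : Fin N} (ha : C.NM a) (s : K) :
    C.tw ha s ∈ Sh N K (RingHom.id K) (C.PT a) := by
  have q1 := C.quad1 ha
  have q2 := C.quad2 ha
  have n1 : a ≠ C.D.p1 := q1.ne
  have n2 : a ≠ C.D.p1.rev := q2.ne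
  have n3 : a ≠ a.rev := q1.h00
  have n4 : C.D.p1 ≠ a.rev := fun h => n2 (by rw [h, Fin.rev_rev])
  have n5 : C.D.p1.rev ≠ a.rev := fun h => n1 (Fin.rev_injective h).symm
  constructor
  · intro i
    rw [tw_apply, if_pos rfl]
    by_cases h1 : i = a
    · subst h1
      simp [n1, n2, n3]
    · simp [h1]
      intro h2
      subst h2
      simp [n4.symm, n5.symm]
  · intro i k hik hP
    rw [tw_apply, if_neg hik]
    unfold PT at hP
    by_cases h1 : i = a
    · subst h1
      have h2 : k ≠ C.D.p1 := fun h => hP (Or.inl ⟨rfl, Or.inl h⟩)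
      have h3 : k ≠ C.D.p1.rev := fun h => hP (Or.inl ⟨rfl, Or.inr (Or.inl h)⟩)
      have h4 : k ≠ i.rev := fun h => hP (Or.inl ⟨rfl, Or.inr (Or.inr h)⟩)
      simp [h2, h3, h4]
    · by_cases h4 : k = a.rev
      · subst h4
        have h5 : i ≠ C.D.p1 := fun h => hP (Or.inr ⟨rfl, Or.inl h⟩)
        have h6 : i ≠ C.D.p1.rev := fun h => hP (Or.inr ⟨rfl, Or.inr h⟩)
        simp [h1, h5, h6]
      · simp [h1, h4]

theorem tw_apply_p1 {a : Fin N} (ha : C.NM a) (s : K) :
    ((gl (C.tw ha s) : GL (Fin N) K) : Matrix (Fin N) (Fin N) K) a C.D.p1 = s := by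
  have q1 := C.quad1 ha
  have q2 := C.quad2 ha
  have n4 : C.D.p1 ≠ a.rev := fun h => q2.ne (by rw [h, Fin.rev_rev])
  rw [tw_apply]
  simp [q1.ne, C.D.p1_ne, n4]

theorem tw_zero {a : Fin N} (ha : C.NM a) : C.tw ha (0 : K) = 1 := by
  unfold tw
  rw [map_zero, xQ_zero, xQ_zero, one_mul]

theorem tw_add {a : Fin N} (ha : C.NM a) (s u : K) :
    C.tw ha s * C.tw ha u = C.tw ha (s + u) := by
  apply gl_injective
  apply Units.ext
  ext i k
  rw [gl_mul, Units.val_mul, mul_tw_apply]
  simp only [tw_apply]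
  have q1 := C.quad1 ha
  have q2 := C.quad2 ha
  have n1 : a ≠ C.D.p1 := q1.ne
  have n2 : a ≠ C.D.p1.rev := q2.ne
  have n3 : a ≠ a.rev := q1.h00
  have n4 : C.D.p1 ≠ a.rev := fun h => n2 (by rw [h, Fin.rev_rev])
  have n5 : C.D.p1.rev ≠ a.rev := fun h => n1 (Fin.rev_injective h).symm
  have n6 := C.D.p1_ne
  by_cases h1 : k = C.D.p1
  · subst h1
    simp [n1, n1.symm, n4, n6]
    split_ifs <;> simp_all
  · by_cases h2 : k = C.D.p1.rev
    · subst h2
      simp [n1, n2.symm, n5, n6.symm, n3]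
      split_ifs <;> simp_all
    · by_cases h3 : k = a.rev
      · subst h3
        simp [n1, n2, n1.symm, n2.symm, n3, n3.symm, n4, n4.symm, n5, n5.symm, n6, n6.symm]
        split_ifs <;> simp_all <;> ring
      · simp [h1, h2, h3]

theorem tw_inv {a : Fin N} (ha : C.NM a) (s : K) : (C.tw ha s)⁻¹ = C.tw ha (-s) := by
  rw [inv_eq_iff_mul_eq_one, tw_add, add_neg_cancel, tw_zero]


section param

variable [Fintype K]

/-- the elements of the special orthogonal group of minus type with the shape of a short root are the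
short root elements -/
theorem sh_PT_eq {a : Fin N} (ha : C.NM a) {g : SUm N K (RingHom.id K)}
    (hg : g ∈ Sh N K (RingHom.id K) (C.PT a)) (hS : g ∈ C.SM) :
    g = C.tw ha (((gl g : GL (Fin N) K) : Matrix (Fin N) (Fin N) K) a C.D.p1) := by
  have q1 := C.quad1 ha
  have q2 := C.quad2 ha
  have n1 : a ≠ C.D.p1 := q1.ne
  have n2 : a ≠ C.D.p1.rev := q2.ne
  have n3 : a ≠ a.rev := q1.h00
  have n4 : C.D.p1 ≠ a.rev := fun h => n2 (by rw [h, Fin.rev_rev])
  have n5 : C.D.p1.rev ≠ a.rev := fun h => n1 (Fin.rev_injective h).symm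
  have n6 := C.D.p1_ne
  obtain ⟨hd, ho⟩ := hg
  set s := ((gl g : GL (Fin N) K) : Matrix (Fin N) (Fin N) K) a C.D.p1 with hs
  -- the entry `(a, p1')`
  have e1 : ((gl g : GL (Fin N) K) : Matrix (Fin N) (Fin N) K) a C.D.p1.rev = C.cj s := by
    have := C.ThFix_apply hS.1 a C.D.p1
    rw [ha, C.tau_p1] at this
    exact this.symm
  -- the entry `(p1', a')`
  have e2 : ((gl g : GL (Fin N) K) : Matrix (Fin N) (Fin N) K) C.D.p1.rev a.rev = -s := by
    have h := row_unitary (gl_mem_UH g) C.D.p1.rev a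
    rw [if_neg n5, Finset.sum_eq_add_of_mem C.D.p1.rev a.rev (Finset.mem_univ _) (Finset.mem_univ _)
      n5] at h
    · rw [hd, Fin.rev_rev, Fin.rev_rev, hd, RingHom.id_apply, RingHom.id_apply, one_mul,
        mul_one] at h
      exact eq_neg_of_add_eq_zero_right h
    · intro c _ hc
      rw [ho C.D.p1.rev c hc.1.symm, zero_mul]
      rintro (⟨h1, -⟩ | ⟨h1, -⟩)
      · exact n2 h1.symm
      · exact hc.2 h1
  -- the entry `(p1, a')`
  have e3 : ((gl g : GL (Fin N) K) : Matrix (Fin N) (Fin N) K) C.D.p1 a.rev = -C.cj s := by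
    have h := row_unitary (gl_mem_UH g) C.D.p1 a
    rw [if_neg n4, Finset.sum_eq_add_of_mem C.D.p1 a.rev (Finset.mem_univ _) (Finset.mem_univ _)
      n4] at h
    · rw [hd, Fin.rev_rev, hd, RingHom.id_apply, RingHom.id_apply, one_mul, mul_one, e1] at h
      exact eq_neg_of_add_eq_zero_right h
    · intro c _ hc
      rw [ho C.D.p1 c hc.1.symm, zero_mul]
      rintro (⟨h1, -⟩ | ⟨h1, -⟩)
      · exact n1 h1.symm
      · exact hc.2 h1
  -- the entry `(a, a')`
  have e4 : ((gl g : GL (Fin N) K) : Matrix (Fin N) (Fin N) K) a a.rev = -(s * C.cj s) := by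
    have h := (mem_OD.1 hS.2).col a.rev
    have hsum : ∀ i : Fin N, i ≠ a → i ≠ a.rev → i ≠ C.D.p1 → i ≠ C.D.p1.rev →
        (if i < i.rev then ((gl g : GL (Fin N) K) : Matrix (Fin N) (Fin N) K) i a.rev
          * ((gl g : GL (Fin N) K) : Matrix (Fin N) (Fin N) K) i.rev a.rev else 0) = 0 := by
      intro i h1 h2 h3 h4
      split_ifs
      · rw [ho i a.rev h2, zero_mul]
        rintro (⟨h5, -⟩ | ⟨-, h5 | h5⟩)
        · exact h1 h5
        · exact h3 h5
        · exact h4 h5
      · rfl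
    -- the pairs `{a, a'}` and `{p1, p1'}`
    have hp : C.D.p1 < C.D.p1.rev := by
      rw [Fin.lt_def, C.D.p1_val, C.D.p1_rev_val]
      omega
    rcases lt_or_gt_of_ne n3 with hlt | hlt
    · rw [Finset.sum_eq_add_of_mem a C.D.p1 (Finset.mem_univ _) (Finset.mem_univ _) n1] at h
      · rw [if_pos hlt, if_pos hp, hd, mul_one, e2, e3] at h
        linear_combination h
      · intro c _ hc
        by_cases hca : c = a.rev
        · rw [hca, Fin.rev_rev, if_neg (not_lt_of_gt hlt)]
        · by_cases hcp : c = C.D.p1.rev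
          · rw [hcp, Fin.rev_rev, if_neg (not_lt_of_gt hp)]
          · exact hsum c hc.1 hca hc.2 hcp
    · rw [Finset.sum_eq_add_of_mem a.rev C.D.p1 (Finset.mem_univ _) (Finset.mem_univ _) n4.symm] at h
      · rw [Fin.rev_rev, if_pos hlt, if_pos hp, hd, one_mul, e2, e3] at h
        linear_combination h
      · intro c _ hc
        by_cases hca : c = a
        · rw [hca, if_neg (not_lt_of_gt hlt)]
        · by_cases hcp : c = C.D.p1.rev
          · rw [hcp, Fin.rev_rev, if_neg (not_lt_of_gt hp)]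
          · exact hsum c hca hc.1 hc.2 hcp
  apply gl_injective
  apply Units.ext
  ext i k
  rw [tw_apply]
  by_cases hik : i = k
  · subst hik
    rw [hd, if_pos rfl]
    by_cases h1 : i = a
    · subst h1
      simp [n1, n2, n3]
    · simp [h1]
      intro h2
      subst h2
      simp [n4.symm, n5.symm]
  · rw [if_neg hik]
    by_cases h1 : i = a
    · subst h1
      by_cases h2 : k = C.D.p1
      · subst h2
        simp [n6, n4]
        exact hs.symm
      · by_cases h3 : k = C.D.p1.rev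
        · subst h3
          simp [n6.symm, n5, e1]
        · by_cases h4 : k = i.rev
          · subst h4
            simp [h2, h3, n1, n2, e4]
          · rw [ho i k hik]
            · simp [h2, h3, h4]
            · rintro (⟨-, h5 | h5 | h5⟩ | ⟨h5, -⟩)
              · exact h2 h5
              · exact h3 h5
              · exact h4 h5
              · exact h4 h5
    · by_cases h4 : k = a.rev
      · subst h4
        by_cases h5 : i = C.D.p1
        · subst h5
          simp [n1.symm, n6, n4, e3]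
        · by_cases h6 : i = C.D.p1.rev
          · subst h6
            simp [n2.symm, n6.symm, n5, e2]
          · rw [ho i a.rev hik]
            · simp [h1, h5, h6]
            · rintro (⟨h7, -⟩ | ⟨-, h7 | h7⟩)
              · exact h1 h7
              · exact h5 h7
              · exact h6 h7
      · rw [ho i k hik]
        · simp [h1, h4]
        · rintro (⟨h7, -⟩ | ⟨h7, -⟩)
          · exact h1 h7
          · exact h4 h7

end param


/-- the coordinates of the first half -/
def ia (a : ℕ) (ha : a ≤ C.κ) : Fin N := ⟨a, by have := C.hN; omega⟩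

theorem ia_val (a : ℕ) (ha : a ≤ C.κ) : ((C.ia a ha : Fin N) : ℕ) = a := rfl

theorem ia_rev_val (a : ℕ) (ha : a ≤ C.κ) : (((C.ia a ha).rev : Fin N) : ℕ) = N - (a + 1) := by
  rw [Fin.val_rev, ia_val]

theorem NM_ia (a : ℕ) (ha : a ≤ C.κ) : C.NM (C.ia a ha) :=
  C.NM_of_val (by rw [ia_val]; omega) (by rw [ia_val]; omega)

/-- the four positions of a chain node -/
theorem quadC (j : ℕ) (hj : j < C.κ) : Quad (C.ia j (le_of_lt hj)) (C.ia (j + 1) hj) :=
  Cfsg.Agent.AutPSU.quad j (C.hj_of_lt hj)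

/-- the positive root elements of a chain node -/
theorem sM_upT (j : ℕ) (hj : j < C.κ) (t : F) :
    C.sM j hj (upT t) = xQ (C.quadC j hj) (C.ι t) := by
  rw [sM_apply, Cfsg.Agent.AutPO.map_upT]
  apply gl_injective
  rw [gl_xQ]
  show Cfsg.Agent.AutPSU.shortGL (RingHom.id K) (Cfsg.Agent.AutPSU.quad j (C.hj_of_lt hj))
    (upT (C.ι t)) = _
  rw [Cfsg.Agent.AutPSU.shortGL_upT]
  rfl

/-- the positive root elements of the twisted node -/
theorem tM_upT (s : K) : C.tM (upT s) = C.tw (C.NM_ia C.κ le_rfl) s := by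
  rw [tM_apply]
  unfold tw cjS
  rw [Cfsg.Agent.AutPO.map_upT]
  congr 1
  · apply gl_injective
    rw [gl_xQ]
    show Cfsg.Agent.AutPSU.shortGL (RingHom.id K) (Cfsg.Agent.AutPSU.quad C.κ C.hκN) (upT s) = _
    rw [Cfsg.Agent.AutPSU.shortGL_upT]
    rfl
  · apply gl_injective
    rw [gl_xQ]
    show Cfsg.Agent.AutPSU.shortGL (RingHom.id K) (Cfsg.Agent.AutPO.forkQuad C.κ C.hN)
      (upT (C.cj s)) = _
    rw [Cfsg.Agent.AutPSU.shortGL_upT]
    rfl

end MC

end Cfsg.Agent.AutPM
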