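import Cfsg.Agent.Lib.Helper5.AutDO.Opp2
import Cfsg.Agent.Lib.Lead.AutPO.MMain
import Cfsg.Agent.Lib.Lead.AutPO.DOQ
import Cfsg.Agent.Lib.Lead.RootBN.OQIso
import Mathlib

/-!
# `Ω⁻_{2κ+4}(F)` inside `Ω⁺_{2κ+4}(K)`: the twisting automorphism (lead)

`K` a quadratic extension of `F` with the conjugation `cj`; `N = 2 κ + 4`.  The twisting automorphism
`Th g = P cj(g) P⁻¹` of the special orthogonal group `SUm N K id` of the antidiagonal form (`P` the
reflection swapping the two middle coordinates); the model `G0` of `Ω⁻`, generated by the chain nodes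
`sO j` (`j < κ`) over `F` and the twisted node `tO` over `K`; `G0` is fixed by `Th` and preserves the
quadratic form.
-/

set_option autoImplicit false

namespace Cfsg.Agent.AutPM

open Matrix Cfsg Cfsg.Agent.Lib.Helper5.GLBN Cfsg.Agent.Lib.Helper8.SpBN
open Cfsg.Agent.Lib.Helper8.Tw Cfsg.Agent.PSUT Cfsg.Agent.Lib.Helper5.AutSU
open Cfsg.Agent.Lib.Helper5.AutDO
open Cfsg.Agent.AutPSU (upT loT dgT moT)
open Cfsg.Agent.AutPO (sO fO tO)
open scoped MatrixGroups

variable {N : ℕ} {F K : Type*} [Field F] [Field K]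

/-- the data of the twisted model: a quadratic extension `K` of `F` with its conjugation -/
structure MC (N : ℕ) (F K : Type*) [Field F] [Field K] where
  /-- the rank is `κ + 1` -/
  κ : ℕ
  hN : N = 2 * κ + 4
  /-- the embedding of the small field -/
  ι : F →+* K
  /-- the conjugation -/
  cj : K ≃+* K
  /-- the conjugation is a power map -/
  q : ℕ
  hpow : ∀ x, cj x = x ^ q
  hcj : ∀ x, cj (cj x) = x
  hι : ∀ a, cj (ι a) = ι a
  hfix : ∀ x, cj x = x → ∃ a, ι a = x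
  hne : ∃ x, cj x ≠ x

namespace MC

variable (C : MC N F K)

/-- the underlying data of type `D` -/
def D : DC N := ⟨C.κ, C.hN⟩

theorem D_κ : C.D.κ = C.κ := rfl

/-- the conjugation commutes with every field automorphism -/
theorem cj_comm (ψ : K ≃+* K) (x : K) : ψ (C.cj x) = C.cj (ψ x) := by
  rw [C.hpow, C.hpow, map_pow]

/-- the twisting automorphism -/
noncomputable def Th : SUm N K (RingHom.id K) ≃* SUm N K (RingHom.id K) :=
  (Cfsg.Agent.AutPSU.fieldU C.cj (fun _ => rfl)).trans C.D.Gam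

theorem Th_apply (g : SUm N K (RingHom.id K)) (a b : Fin N) :
    ((gl (C.Th g) : GL (Fin N) K) : Matrix (Fin N) (Fin N) K) a b
      = C.cj (((gl g : GL (Fin N) K) : Matrix (Fin N) (Fin N) K) (C.D.tau a) (C.D.tau b)) := by
  unfold Th
  rw [MulEquiv.trans_apply, DC.Gam_apply]
  rfl

theorem Th_Th (g : SUm N K (RingHom.id K)) : C.Th (C.Th g) = g := by
  apply gl_injective
  apply Units.ext
  ext a b
  rw [Th_apply, Th_apply, DC.tau_tau, DC.tau_tau, C.hcj]

/-- the fixed points of the twisting automorphism -/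
def ThFix : Subgroup (SUm N K (RingHom.id K)) where
  carrier := {g | C.Th g = g}
  mul_mem' := by
    intro a b ha hb
    show C.Th (a * b) = a * b
    have ha' : C.Th a = a := ha
    have hb' : C.Th b = b := hb
    rw [map_mul, ha', hb']
  one_mem' := map_one _
  inv_mem' := by
    intro a ha
    show C.Th a⁻¹ = a⁻¹
    have ha' : C.Th a = a := ha
    rw [map_inv, ha']

theorem mem_ThFix {g : SUm N K (RingHom.id K)} : g ∈ C.ThFix ↔ C.Th g = g := Iff.rfl

/-- the entries of a fixed point -/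
theorem ThFix_apply {g : SUm N K (RingHom.id K)} (hg : g ∈ C.ThFix) (a b : Fin N) :
    C.cj (((gl g : GL (Fin N) K) : Matrix (Fin N) (Fin N) K) a b)
      = ((gl g : GL (Fin N) K) : Matrix (Fin N) (Fin N) K) (C.D.tau a) (C.D.tau b) := by
  have h := C.Th_apply g (C.D.tau a) (C.D.tau b)
  rw [C.mem_ThFix.1 hg, DC.tau_tau, DC.tau_tau] at h
  exact h.symm

theorem mem_ThFix_iff {g : SUm N K (RingHom.id K)} : g ∈ C.ThFix ↔ ∀ a b : Fin N,
    C.cj (((gl g : GL (Fin N) K) : Matrix (Fin N) (Fin N) K) a b)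
      = ((gl g : GL (Fin N) K) : Matrix (Fin N) (Fin N) K) (C.D.tau a) (C.D.tau b) := by
  constructor
  · intro hg a b
    exact C.ThFix_apply hg a b
  · intro h
    rw [mem_ThFix]
    apply gl_injective
    apply Units.ext
    ext a b
    rw [Th_apply, ← h, C.hcj]

end MC

/-! ### the field automorphisms on the nodes -/

/-- a field automorphism acts on a block homomorphism through the entries -/
theorem fieldU_shortHom (ψ : K ≃+* K) {i₀ i₁ : Fin N} (q : Cfsg.Agent.AutPSU.Quad i₀ i₁)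
    (x : Matrix.SpecialLinearGroup (Fin 2) K) :
    Cfsg.Agent.AutPSU.fieldU ψ (fun _ => rfl)
        (Cfsg.Agent.AutPSU.shortHom (RingHom.id K) Cfsg.Agent.AutPO.idInv q x)
      = Cfsg.Agent.AutPSU.shortHom (RingHom.id K) Cfsg.Agent.AutPO.idInv q
          (Matrix.SpecialLinearGroup.map (ψ : K →+* K) x) := by
  have key : (Cfsg.Agent.AutPSU.fieldU (φ := RingHom.id K) ψ (fun _ => rfl)).toMonoidHom.comp
      (Cfsg.Agent.AutPSU.shortHom (RingHom.id K) Cfsg.Agent.AutPO.idInv q)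
      = (Cfsg.Agent.AutPSU.shortHom (RingHom.id K) Cfsg.Agent.AutPO.idInv q).comp
          (Matrix.SpecialLinearGroup.map (ψ : K →+* K)) := by
    apply Cfsg.Agent.AutPSU.sl2_hom_ext
    · intro t
      apply Cfsg.Agent.AutPSU.gl_injective
      show Matrix.GeneralLinearGroup.map (ψ : K →+* K)
          (Cfsg.Agent.AutPSU.shortGL (RingHom.id K) q (upT t))
        = Cfsg.Agent.AutPSU.shortGL (RingHom.id K) q
            (Matrix.SpecialLinearGroup.map (ψ : K →+* K) (upT t))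
      rw [Cfsg.Agent.AutPO.map_upT, Cfsg.Agent.AutPSU.shortGL_upT, Cfsg.Agent.AutPSU.shortGL_upT,
        map_mul, Cfsg.Agent.AutPSU.glMap_tv, Cfsg.Agent.AutPSU.glMap_tv]
      simp
    · intro t
      apply Cfsg.Agent.AutPSU.gl_injective
      show Matrix.GeneralLinearGroup.map (ψ : K →+* K)
          (Cfsg.Agent.AutPSU.shortGL (RingHom.id K) q (loT t))
        = Cfsg.Agent.AutPSU.shortGL (RingHom.id K) q
            (Matrix.SpecialLinearGroup.map (ψ : K →+* K) (loT t))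
      rw [Cfsg.Agent.AutPO.map_loT, Cfsg.Agent.AutPSU.shortGL_loT, Cfsg.Agent.AutPSU.shortGL_loT,
        map_mul, Cfsg.Agent.AutPSU.glMap_tv, Cfsg.Agent.AutPSU.glMap_tv]
      simp
  exact DFunLike.congr_fun key x

theorem fieldU_sO (ψ : K ≃+* K) (j : ℕ) (hj : 2 * j + 4 ≤ N)
    (x : Matrix.SpecialLinearGroup (Fin 2) K) :
    Cfsg.Agent.AutPSU.fieldU ψ (fun _ => rfl) (sO j hj x)
      = sO j hj (Matrix.SpecialLinearGroup.map (ψ : K →+* K) x) :=
  fieldU_shortHom ψ _ x

theorem fieldU_fO (ψ : K ≃+* K) (κ : ℕ) (hN : N = 2 * κ + 4)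
    (x : Matrix.SpecialLinearGroup (Fin 2) K) :
    Cfsg.Agent.AutPSU.fieldU ψ (fun _ => rfl) (fO κ hN x)
      = fO κ hN (Matrix.SpecialLinearGroup.map (ψ : K →+* K) x) :=
  fieldU_shortHom ψ _ x

theorem map_map_sl2 {A B C' : Type*} [CommRing A] [CommRing B] [CommRing C'] (f : A →+* B)
    (g : B →+* C') (x : Matrix.SpecialLinearGroup (Fin 2) A) :
    Matrix.SpecialLinearGroup.map g (Matrix.SpecialLinearGroup.map f x)
      = Matrix.SpecialLinearGroup.map (g.comp f) x := by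
  apply Subtype.ext
  ext i j
  rfl

namespace MC

variable (C : MC N F K)

theorem hj_of_lt {j : ℕ} (hj : j < C.κ) : 2 * j + 4 ≤ N := by
  have := C.hN
  omega

theorem hκN : 2 * C.κ + 4 ≤ N := by
  have := C.hN
  omega

/-- the conjugation of `SL₂(K)` -/
noncomputable def cjS : Matrix.SpecialLinearGroup (Fin 2) K →* Matrix.SpecialLinearGroup (Fin 2) K :=
  Matrix.SpecialLinearGroup.map (C.cj : K →+* K)

theorem cjS_cjS (x : Matrix.SpecialLinearGroup (Fin 2) K) : C.cjS (C.cjS x) = x := by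
  apply Subtype.ext
  ext i j
  exact C.hcj _

theorem cjS_map (x : Matrix.SpecialLinearGroup (Fin 2) F) :
    C.cjS (Matrix.SpecialLinearGroup.map C.ι x) = Matrix.SpecialLinearGroup.map C.ι x := by
  apply Subtype.ext
  ext i j
  exact C.hι _

/-- the chain nodes over the small field -/
noncomputable def sM (j : ℕ) (hj : j < C.κ) :
    Matrix.SpecialLinearGroup (Fin 2) F →* SUm N K (RingHom.id K) :=
  (sO j (C.hj_of_lt hj)).comp (Matrix.SpecialLinearGroup.map C.ι)

/-- the twisted node -/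
noncomputable def tM : Matrix.SpecialLinearGroup (Fin 2) K →* SUm N K (RingHom.id K) :=
  tO C.κ C.hN (C.cj : K →+* K)

theorem sM_apply (j : ℕ) (hj : j < C.κ) (x : Matrix.SpecialLinearGroup (Fin 2) F) :
    C.sM j hj x = sO j (C.hj_of_lt hj) (Matrix.SpecialLinearGroup.map C.ι x) := rfl

theorem tM_apply (x : Matrix.SpecialLinearGroup (Fin 2) K) :
    C.tM x = sO C.κ C.hκN x * fO C.κ C.hN (C.cjS x) := rfl

/-- the twisting automorphism on the nodes of type `D` -/
theorem Th_sO_lt (j : ℕ) (hj : j < C.κ) (x : Matrix.SpecialLinearGroup (Fin 2) K) :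
    C.Th (sO j (C.hj_of_lt hj) x) = sO j (C.hj_of_lt hj) (C.cjS x) := by
  unfold Th
  rw [MulEquiv.trans_apply, fieldU_sO]
  exact Cfsg.Agent.AutPO.conj_rfl_sO_lt C.κ C.hN j hj _

theorem Th_sO (x : Matrix.SpecialLinearGroup (Fin 2) K) :
    C.Th (sO C.κ C.hκN x) = fO C.κ C.hN (C.cjS x) := by
  unfold Th
  rw [MulEquiv.trans_apply, fieldU_sO]
  exact Cfsg.Agent.AutPO.conj_rfl_sO C.κ C.hN _

theorem Th_fO (x : Matrix.SpecialLinearGroup (Fin 2) K) :
    C.Th (fO C.κ C.hN x) = sO C.κ C.hκN (C.cjS x) := by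
  unfold Th
  rw [MulEquiv.trans_apply, fieldU_fO]
  exact Cfsg.Agent.AutPO.conj_rfl_fO C.κ C.hN _

theorem Th_sM (j : ℕ) (hj : j < C.κ) (x : Matrix.SpecialLinearGroup (Fin 2) F) :
    C.Th (C.sM j hj x) = C.sM j hj x := by
  rw [sM_apply, C.Th_sO_lt j hj, cjS_map]

theorem Th_tM (x : Matrix.SpecialLinearGroup (Fin 2) K) : C.Th (C.tM x) = C.tM x := by
  rw [tM_apply, map_mul, Th_sO, Th_fO, cjS_cjS]
  exact (Cfsg.Agent.AutPO.sO_fO_comm C.κ C.hN x (C.cjS x)).symm

/-- the model of `Ω⁻`: the subgroup generated by the nodes -/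
noncomputable def G0 : Subgroup (SUm N K (RingHom.id K)) :=
  (⨆ j : Fin C.κ, (C.sM j j.2).range) ⊔ C.tM.range

theorem sM_mem_G0 (j : ℕ) (hj : j < C.κ) (x : Matrix.SpecialLinearGroup (Fin 2) F) :
    C.sM j hj x ∈ C.G0 :=
  Subgroup.mem_sup_left (Subgroup.mem_iSup_of_mem (⟨j, hj⟩ : Fin C.κ) ⟨x, rfl⟩)

theorem tM_mem_G0 (x : Matrix.SpecialLinearGroup (Fin 2) K) : C.tM x ∈ C.G0 :=
  Subgroup.mem_sup_right ⟨x, rfl⟩

theorem G0_le {H : Subgroup (SUm N K (RingHom.id K))}
    (hS : ∀ (j : ℕ) (hj : j < C.κ) (x : Matrix.SpecialLinearGroup (Fin 2) F), C.sM j hj x ∈ H)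
    (hT : ∀ x : Matrix.SpecialLinearGroup (Fin 2) K, C.tM x ∈ H) : C.G0 ≤ H := by
  unfold G0
  rw [sup_le_iff]
  constructor
  · apply iSup_le
    rintro j _ ⟨x, rfl⟩
    exact hS j j.2 x
  · rintro _ ⟨x, rfl⟩
    exact hT x

/-- the model is fixed by the twisting automorphism -/
theorem G0_le_ThFix : C.G0 ≤ C.ThFix :=
  C.G0_le (fun j hj x => C.Th_sM j hj x) (fun x => C.Th_tM x)

theorem even (C : MC N F K) : Even N := ⟨C.κ + 2, by have := C.hN; omega⟩

end MC

/-- the two descriptions of the orthogonal group of the quadratic form -/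
theorem isQ_iff_mem_OQ (hE : Even N) {g : GL (Fin N) K} :
    IsQ (g : Matrix (Fin N) (Fin N) K) ↔ g ∈ Cfsg.Agent.RootBN.OQ N K hE :=
  (Cfsg.Agent.RootBN.mem_OQ_iff_qv hE).symm

namespace MC

variable (C : MC N F K)

section fin

variable [Finite K]

theorem sO_mem_OD (hE : Even N) (j : ℕ) (hj : 2 * j + 4 ≤ N)
    (x : Matrix.SpecialLinearGroup (Fin 2) K) : sO j hj x ∈ OD N K := by
  rw [mem_OD]
  exact (isQ_iff_mem_OQ hE).2 (Cfsg.Agent.AutPO.shortGL_mem_OQ hE _ x)

theorem fO_mem_OD (x : Matrix.SpecialLinearGroup (Fin 2) K) : fO C.κ C.hN x ∈ OD N K := by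
  rw [mem_OD]
  exact (isQ_iff_mem_OQ C.even).2 (Cfsg.Agent.AutPO.shortGL_mem_OQ C.even _ x)

/-- the model preserves the quadratic form -/
theorem G0_le_OD : C.G0 ≤ OD N K :=
  C.G0_le (fun j hj x => sO_mem_OD C.even j (C.hj_of_lt hj) _)
    (fun x => mul_mem (sO_mem_OD C.even _ C.hκN _) (C.fO_mem_OD _))

end fin

end MC

end Cfsg.Agent.AutPM
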